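import Groth.Agent.L17.FSheaf.Alg
import Mathlib.RingTheory.IsTensorProduct

/-!
# A quotient map from a chain of base changes
-/

set_option autoImplicit false
set_option linter.unusedSectionVars false

universe u

namespace Groth.L17.ComplUnit

variable {R A S O : Type u} [CommRing R] [CommRing A] [CommRing S] [CommRing O] [Algebra R A] [Algebra R S]
  [Algebra A O] [Algebra S O] [Algebra R O] [IsScalarTower R A O] [IsScalarTower R S O]
variable {M P N Q T : Type u} [AddCommGroup M] [Module R M] [AddCommGroup P] [Module R P] [Module A P]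
  [IsScalarTower R A P] [AddCommGroup N] [Module R N] [Module S N] [IsScalarTower R S N]
  [AddCommGroup Q] [Module R Q] [Module S Q] [Module O Q] [IsScalarTower R O Q] [IsScalarTower S O Q]
  [IsScalarTower R S Q]
  [AddCommGroup T] [Module R T] [Module A T] [Module O T] [IsScalarTower A O T] [IsScalarTower R A T]
  [IsScalarTower R O T]

/-- If two composites of base changes agree, the connecting map is a base change along a surjection. -/
theorem surjective_ker_of_chain (l₁ : M →ₗ[R] P) (h₁ : IsBaseChange A l₁) (l₂ : M →ₗ[R] N) (h₂ : IsBaseChange S l₂)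
    (l₃ : N →ₗ[S] Q) (h₃ : IsBaseChange O l₃) (e : Q ≃ₗ[O] T) (v : P →ₗ[A] T)
    (hc : ∀ m, v (l₁ m) = e (l₃ (l₂ m))) (hA : Function.Surjective (algebraMap A O)) :
    Function.Surjective v ∧ ∀ x, v x = 0 ↔ x ∈ RingHom.ker (algebraMap A O) • (⊤ : Submodule A P) := by
  have h : IsBaseChange O ((e.toLinearMap.restrictScalars R).comp ((l₃.restrictScalars R).comp l₂)) :=
    (h₂.comp h₃).comp (IsBaseChange.ofEquiv e)
  have hv : IsBaseChange O v := by
    refine IsBaseChange.of_comp h₁ ?_
    rwa [show (v : P →ₗ[R] T) ∘ₗ l₁ = (e.toLinearMap.restrictScalars R).comp ((l₃.restrictScalars R).comp l₂) from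
      LinearMap.ext hc]
  obtain ⟨hs, hk⟩ := Groth.L17.FSheaf.surjective_of_baseChange v hv hA
  exact ⟨hs, fun x => by rw [← hk]; exact Iff.rfl⟩

end Groth.L17.ComplUnit
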