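import Groth.Agent.L17.FSheaf.RestrictSpf
import Groth.Agent.L17.FSheaf.CompBridge
import Groth.Agent.L17.ThickBasic
import Mathlib.AlgebraicGeometry.Morphisms.Proper

/-!
# The scheme over the completed ring of an affine open, with the levels of a formal scheme in it
-/

set_option autoImplicit false
set_option linter.style.haveILetI false
set_option linter.unusedSectionVars false
set_option backward.isDefEq.respectTransparency false
set_option backward.isDefEq.respectTransparency.types false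

universe u

open CategoryTheory CategoryTheory.Limits AlgebraicGeometry TopologicalSpace Opposite

noncomputable section

namespace Groth.L17.ComplUnit

open Groth.L17.FSheaf Groth.L17.FSheaf.Restr
open Groth.L16.AffineBC (scal)

variable {X Z : Scheme.{u}} (f : Z ⟶ X) {𝔛 𝔜 : FSch.Sys.{u}} (φ : 𝔛 ⟶ 𝔜) (hX : 𝔛.IsLocNoethFormal)
  (hY : 𝔜.IsLocNoethFormal) (p : ∀ k, 𝔛.X k ⟶ Z) (hp : ∀ k, 𝔛.ι k ≫ p (k + 1) = p k)
  (r : ∀ k, 𝔜.X k ⟶ X) (hr : ∀ k, 𝔜.ι k ≫ r (k + 1) = r k)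
  (hsq : ∀ n, IsPullback (p n) ((φ : FSch.Hom 𝔛 𝔜).app n) f (r n))
  {W : X.Opens} (hW : IsAffineOpen W)

/-- The open of the formal target. -/
abbrev W₀ : (𝔜.X 0).Opens := pU 𝔜 r W

/-- The completed ring. -/
abbrev Rc : Type u := O 𝔜 hY.1 (W₀ (W := W) r)

/-- The functions of the open in the completed ring. -/
def α : Γ(X, W) →+* Rc (W := W) hY r :=
  ((FSch.schSharp 𝔜 hY.1 r hr).hom.app (op W)).hom

theorem pR_α (k : ℕ) (a : Γ(X, W)) :
    pR 𝔜 hY.1 k (W₀ r) (α hY r hr a) = (r k).appLE W (𝔜.lvU hY.1 k (W₀ r)) (pU_le 𝔜 hY.1 r hr k W) a :=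
  ConcreteCategory.congr_hom (congrArg (fun t => t.hom.app (op W)) (FSch.schSharp_proj 𝔜 hY.1 r hr k)) a

/-- The scheme of the completed ring over the target. -/
def qW : Spec (CommRingCat.of (Rc (W := W) hY r)) ⟶ X :=
  Spec.map (CommRingCat.ofHom (α hY r hr)) ≫ hW.fromSpec

/-- A level as a closed subscheme of the spectrum of the completed ring. -/
def γ (k : ℕ) : (𝔜.lvU hY.1 k (W₀ (W := W) r)).toScheme ⟶ Spec (CommRingCat.of (Rc (W := W) hY r)) :=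
  (𝔜.lvU hY.1 k (W₀ r)).toSpecΓ ≫ Spec.map (CommRingCat.ofHom (pR 𝔜 hY.1 k (W₀ r)))

theorem γ_qW (k : ℕ) :
    γ hY r k ≫ qW hY r hr hW = (𝔜.lvU hY.1 k (W₀ r)).ι ≫ r k := by
  have h1 : CommRingCat.ofHom (α hY r hr) ≫ CommRingCat.ofHom (pR 𝔜 hY.1 k (W₀ r)) =
      (r k).appLE W (𝔜.lvU hY.1 k (W₀ r)) (pU_le 𝔜 hY.1 r hr k W) :=
    CommRingCat.hom_ext (RingHom.ext (pR_α hY r hr k))
  rw [γ, qW, Category.assoc, ← Spec.map_comp_assoc, h1, ← Category.assoc, ← resLE_toSpecΓ, Category.assoc,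
    hW.toSpecΓ_fromSpec, Scheme.Hom.resLE_comp_ι]

theorem γ_comm (k : ℕ) :
    (𝔜.restrictOpen hY.1 (W₀ r)).ι k ≫ γ (W := W) hY r (k + 1) = γ hY r k := by
  show (𝔜.ι k).resLE _ _ _ ≫ _ ≫ Spec.map _ = _
  rw [← Category.assoc, resLE_toSpecΓ, γ, Category.assoc, ← Spec.map_comp]
  exact congrArg (_ ≫ Spec.map ·) (CommRingCat.hom_ext (RingHom.ext fun a => tR_pR 𝔜 hY.1 k (W₀ r) a))

variable (hr0 : IsClosedImmersion (r 0))

include hr0 hW in
theorem isAffineOpen_W₀ : IsAffineOpen (W₀ (𝔜 := 𝔜) (W := W) r) := by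
  haveI := hr0
  exact isAffineOpen_pU 𝔜 r hW

include hr0 hW in
theorem isClosedImmersion_γ (k : ℕ) : IsClosedImmersion (γ (W := W) hY r k) := by
  have hk := isAffineOpen_lvU 𝔜 hY.1 (isAffineOpen_W₀ r hW hr0) k
  haveI : IsIso (𝔜.lvU hY.1 k (W₀ (W := W) r)).toSpecΓ := by
    rw [← IsAffineOpen.isoSpec_hom hk]
    infer_instance
  haveI : IsClosedImmersion (Spec.map (CommRingCat.ofHom (pR 𝔜 hY.1 k (W₀ (W := W) r)))) :=
    IsClosedImmersion.spec_of_surjective _ (pR_surjective 𝔜 hY.1 (isAffineOpen_W₀ r hW hr0) k)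
  rw [γ]
  infer_instance

include hr0 hW in
theorem ker_γ (k : ℕ) :
    (γ (W := W) hY r k).ker.ideal ⟨⊤, isAffineOpen_top _⟩ =
      (J 𝔜 hY.1 (W₀ r) ^ (k + 1)).map (Scheme.ΓSpecIso (CommRingCat.of (Rc (W := W) hY r))).inv.hom := by
  have hW0 := isAffineOpen_W₀ r hW hr0
  have hk := isAffineOpen_lvU 𝔜 hY.1 hW0 k
  haveI : IsIso (𝔜.lvU hY.1 k (W₀ (W := W) r)).toSpecΓ := by
    rw [← IsAffineOpen.isoSpec_hom hk]
    infer_instance
  rw [γ, Scheme.Hom.ker_comp_of_isIso]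
  refine (AdicBase.specMap_ker_ideal _ (pR_surjective 𝔜 hY.1 hW0 k)).trans ?_
  exact congrArg (Ideal.map _) ((O_spec 𝔜 hY hW0).2.2 k)

/-- The scheme over the completed ring. -/
abbrev Z' : Scheme.{u} := pullback f (qW hY r hr hW)

/-- Its structure morphism. -/
abbrev g : Z' f hY r hr hW ⟶ Spec (CommRingCat.of (Rc (W := W) hY r)) := pullback.snd f (qW hY r hr hW)

instance : (Z' f hY r hr hW).Over (Spec (CommRingCat.of (Rc (W := W) hY r))) := ⟨g f hY r hr hW⟩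

/-- The open of the formal source. -/
abbrev V₀ : (𝔛.X 0).Opens := ((φ : FSch.Hom 𝔛 𝔜).app 0) ⁻¹ᵁ (W₀ (W := W) r)

/-- The morphism of the levels over the open. -/
abbrev φV (k : ℕ) : (𝔛.lvU hX.1 k (V₀ (W := W) φ r)).toScheme ⟶ (𝔜.lvU hY.1 k (W₀ (W := W) r)).toScheme :=
  ((φ : FSch.Hom 𝔛 𝔜).app k).resLE _ _ (FSch.Hom.lvU_preimage φ hX.1 hY.1 k (W₀ r)).ge

/-- The levels in the scheme over the completed ring. -/
def b (k : ℕ) : (XU 𝔛 hX.1 (V₀ (W := W) φ r)).X k ⟶ Z' f hY r hr hW :=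
  pullback.lift ((𝔛.lvU hX.1 k (V₀ φ r)).ι ≫ p k) (φV φ hX hY r k ≫ γ hY r k) (by
    rw [Category.assoc, (hsq k).w, Category.assoc, γ_qW, ← Category.assoc (φV φ hX hY r k),
      Scheme.Hom.resLE_comp_ι, Category.assoc])

theorem b_fst (k : ℕ) :
    b f φ hX hY p r hr hsq hW k ≫ pullback.fst f (qW hY r hr hW) = (𝔛.lvU hX.1 k (V₀ φ r)).ι ≫ p k :=
  pullback.lift_fst _ _ _

theorem b_g (k : ℕ) :
    b f φ hX hY p r hr hsq hW k ≫ g f hY r hr hW = φV φ hX hY r k ≫ γ hY r k :=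
  pullback.lift_snd _ _ _

include hp in
theorem b_comm (k : ℕ) :
    (XU 𝔛 hX.1 (V₀ φ r)).ι k ≫ b f φ hX hY p r hr hsq hW (k + 1) = b f φ hX hY p r hr hsq hW k := by
  refine pullback.hom_ext ?_ ?_
  · rw [Category.assoc, b_fst, b_fst, ← Category.assoc]
    show ((𝔛.ι k).resLE _ _ _ ≫ _) ≫ _ = _
    rw [Scheme.Hom.resLE_comp_ι, Category.assoc, hp]
  · rw [Category.assoc, b_g, b_g, ← γ_comm hY r k, ← Category.assoc, ← Category.assoc]
    refine congrArg (· ≫ _) ?_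
    show (𝔛.ι k).resLE _ _ _ ≫ φV φ hX hY r (k + 1) = φV φ hX hY r k ≫ (𝔜.ι k).resLE _ _ _
    rw [← cancel_mono (𝔜.lvU hY.1 (k + 1) (W₀ r)).ι]
    simp only [Category.assoc, Scheme.Hom.resLE_comp_ι, Scheme.Hom.resLE_comp_ι_assoc]
    rw [(φ : FSch.Hom 𝔛 𝔜).comm k]

theorem isPullback_b (k : ℕ) :
    IsPullback (b f φ hX hY p r hr hsq hW k) (φV φ hX hY r k) (g f hY r hr hW) (γ hY r k) := by
  have h0 : IsPullback (φV (W := W) φ hX hY r k) (𝔛.lvU hX.1 k (V₀ φ r)).ι (𝔜.lvU hY.1 k (W₀ r)).ι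
      ((φ : FSch.Hom 𝔛 𝔜).app k) :=
    isPullback_resLE _ (FSch.Hom.lvU_preimage φ hX.1 hY.1 k (W₀ r)).symm
  have h2 : IsPullback ((φ : FSch.Hom 𝔛 𝔜).app k) (p k) (r k) f := (hsq k).flip
  have h1 := (h0.paste_vert h2).flip
  refine IsPullback.of_right ?_ (b_g f φ hX hY p r hr hsq hW k) (IsPullback.of_hasPullback f (qW hY r hr hW))
  rw [b_fst, γ_qW]
  exact h1

include hr0 in
theorem isClosedImmersion_b (k : ℕ) : IsClosedImmersion (b f φ hX hY p r hr hsq hW k) :=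
  MorphismProperty.of_isPullback (P := @IsClosedImmersion) (isPullback_b f φ hX hY p r hr hsq hW k).flip
    (isClosedImmersion_γ hY r hW hr0 k)

theorem scal_eq (U : (Z' f hY r hr hW).Opens) (a : Rc (W := W) hY r) :
    scal (Rc (W := W) hY r) (Z' f hY r hr hW) U a =
      (g f hY r hr hW).appLE ⊤ U le_top ((Scheme.ΓSpecIso (CommRingCat.of (Rc (W := W) hY r))).inv a) := rfl

include hr0 in
theorem cutOver_b :
    CutOver (X := Z' f hY r hr hW) (J 𝔜 hY.1 (W₀ (W := W) r)) (XU 𝔛 hX.1 (V₀ (W := W) φ r)) (b f φ hX hY p r hr hsq hW) := by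
  intro k A hA
  haveI := isClosedImmersion_b f φ hX hY p r hr hsq hW hr0 k
  haveI := isClosedImmersion_γ hY r hW hr0 k
  refine ⟨(b f φ hX hY p r hr hsq hW k).app_surjective A hA, ?_⟩
  refine ((Scheme.Hom.ker_apply (b f φ hX hY p r hr hsq hW k) ⟨A, hA⟩).symm).trans ?_
  rw [Groth.L17.Thick.ker_of_isPullback (isPullback_b f φ hX hY p r hr hsq hW k),
    Groth.L22.Ideals.comap_ideal (g f hY r hr hW) _ ⟨⊤, isAffineOpen_top _⟩ ⟨A, hA⟩ le_top, ker_γ hY r hW hr0 k,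
    Ideal.map_map, Ideal.map_pow]
  rfl

end Groth.L17.ComplUnit
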