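import Groth.Agent.L16.QCohSections
import Groth.Agent.L16.CohKernel
import Groth.Agent.L16.Exist.PushPull
import Groth.Agent.L16.AffineBC.Pullback
import Groth.Agent.L20.ModStalk

/-!
# The unit of a proper morphism which is an isomorphism off a closed subset, on sections
-/

set_option autoImplicit false
set_option linter.style.haveILetI false
set_option linter.unusedSectionVars false
set_option backward.isDefEq.respectTransparency false
set_option backward.isDefEq.respectTransparency.types false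

universe u

open CategoryTheory CategoryTheory.Limits AlgebraicGeometry TopologicalSpace Opposite

noncomputable section

namespace Groth.L17.ComplUnit

open Groth.L18.Frame (rs ro pull pull_rs pull_smul rs_rs rs_self rs_smul)

/-- An ideal locally killing the kernel and cokernel of a map of finite modules has a power killing them. -/
theorem exists_pow_killing {R M N : Type u} [CommRing R] [IsNoetherianRing R] [AddCommGroup M] [Module R M]
    [Module.Finite R M] [AddCommGroup N] [Module R N] [Module.Finite R N] (L : M →ₗ[R] N) (I : Ideal R)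
    (h : ∀ s ∈ I, (∀ m, L m = 0 → ∃ a : ℕ, s ^ a • m = 0) ∧ ∀ z, ∃ (a : ℕ) (m : M), L m = s ^ a • z) :
    ∃ n : ℕ, ∀ s ∈ I ^ n, (∀ m, L m = 0 → s • m = 0) ∧ ∀ z, ∃ m, L m = s • z := by
  classical
  obtain ⟨k, g, hg⟩ := Module.Finite.exists_fin (R := R) (M := LinearMap.ker L)
  obtain ⟨l, c, hc⟩ := Module.Finite.exists_fin (R := R) (M := N)
  let K₁ : Ideal R := (LinearMap.ker L).annihilator
  let K₂ : Ideal R := (LinearMap.range L).colon (⊤ : Submodule R N)
  have hle : I ≤ (K₁ ⊓ K₂).radical := fun s hs => by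
    obtain ⟨h1, h2⟩ := h s hs
    choose a ha using fun i => h1 (g i).1 (g i).2
    choose b m hm using fun i => h2 (c i)
    refine ⟨Finset.univ.sup a + Finset.univ.sup b, ?_, ?_⟩
    · refine Submodule.mem_annihilator.2 fun x hx => ?_
      obtain ⟨r, hr⟩ := (Submodule.mem_span_range_iff_exists_fun R).1 (hg ▸ Submodule.mem_top :
        (⟨x, hx⟩ : LinearMap.ker L) ∈ Submodule.span R (Set.range g))
      rw [show x = ∑ i, r i • (g i).1 from (congrArg Subtype.val hr).symm.trans (by simp), Finset.smul_sum]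
      refine Finset.sum_eq_zero fun i hi => ?_
      obtain ⟨d, hd⟩ := Nat.exists_eq_add_of_le ((Finset.le_sup (f := a) hi).trans (Nat.le_add_right _ (Finset.univ.sup b)))
      rw [smul_comm, hd, pow_add, mul_comm, mul_smul, ha i, smul_zero, smul_zero]
    · refine Submodule.mem_colon.2 fun z _ => ?_
      obtain ⟨r, rfl⟩ := (Submodule.mem_span_range_iff_exists_fun R).1 (hc ▸ Submodule.mem_top :
        z ∈ Submodule.span R (Set.range c))
      rw [Finset.smul_sum]
      refine Submodule.sum_mem _ fun i hi => ?_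
      obtain ⟨d, hd⟩ := Nat.exists_eq_add_of_le ((Finset.le_sup (f := b) hi).trans (Nat.le_add_left _ (Finset.univ.sup a)))
      rw [smul_comm, hd, pow_add, mul_comm, mul_smul, ← hm i, ← map_smul, ← map_smul]
      exact ⟨_, rfl⟩
  obtain ⟨n, hn⟩ := Ideal.exists_pow_le_of_le_radical_of_fg hle (IsNoetherian.noetherian I)
  exact ⟨n, fun s hs => ⟨fun m hm => Submodule.mem_annihilator.1 (hn hs).1 m hm, fun z =>
    Submodule.mem_colon.1 (hn hs).2 z trivial⟩⟩

variable {X Y : Scheme.{u}} (f : X ⟶ Y)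

theorem isIso_app_of_isIso_restrict (W : Y.Opens) [IsIso (f ∣_ W)] : IsIso (f.app W) := by
  have h : IsIso ((f ∣_ W).app ⊤) := inferInstance
  rw [morphismRestrict_app] at h
  haveI := h
  haveI h' : IsIso (f.app (W.ι ''ᵁ ⊤)) := IsIso.of_isIso_comp_right (f.app (W.ι ''ᵁ ⊤))
    (X.presheaf.map (eqToHom (image_morphismRestrict_preimage f W ⊤)).op)
  rwa [Scheme.Opens.ι_image_top] at h'

/-- The unit is bijective on sections over an open over which the morphism is an isomorphism. -/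
theorem bijective_pull_of_isIso_restrict (F : Y.Modules) [Coh.IsQCoh F] {W : Y.Opens} (hW : IsAffineOpen W)
    [IsIso (f ∣_ W)] : Function.Bijective (pull f F W) := by
  haveI : IsAffine W.toScheme := hW
  have hU : IsAffineOpen (f ⁻¹ᵁ W) := IsAffine.of_isIso (f ∣_ W)
  have e : f ⁻¹ᵁ W ≤ f ⁻¹ᵁ W := le_rfl
  let P := (Scheme.Modules.pullback f).obj F
  letI : Algebra Γ(Y, W) Γ(X, f ⁻¹ᵁ W) := (f.appLE W (f ⁻¹ᵁ W) e).hom.toAlgebra
  letI := Module.compHom Γ(P, f ⁻¹ᵁ W) (f.appLE W (f ⁻¹ᵁ W) e).hom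
  haveI : IsScalarTower Γ(Y, W) Γ(X, f ⁻¹ᵁ W) Γ(P, f ⁻¹ᵁ W) := IsScalarTower.of_algebraMap_smul fun _ _ => rfl
  have hbc := Groth.L16.AffineBC.isBaseChange_pull f F hW hU e
  haveI := isIso_app_of_isIso_restrict f W
  have halg : Function.Bijective (algebraMap Γ(Y, W) Γ(X, f ⁻¹ᵁ W)) := by
    show Function.Bijective (f.appLE W (f ⁻¹ᵁ W) e).hom
    rw [← Scheme.Hom.app_eq_appLE]
    exact ConcreteCategory.bijective_of_isIso (f.app W)
  have hfun : ∀ m, Groth.L16.AffineBC.pullRes f F e m = pull f F W m := fun m => rs_self _ _ _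
  let eR : Γ(Y, W) ≃ₗ[Γ(Y, W)] Γ(X, f ⁻¹ᵁ W) := LinearEquiv.ofBijective (Algebra.linearMap _ _) halg
  let φ : Γ(F, W) ≃ₗ[Γ(Y, W)] Γ(P, f ⁻¹ᵁ W) :=
    (TensorProduct.lid Γ(Y, W) Γ(F, W)).symm ≪≫ₗ TensorProduct.congr eR (LinearEquiv.refl _ _) ≪≫ₗ
      hbc.equiv.restrictScalars Γ(Y, W)
  convert φ.bijective using 1
  refine funext fun m => ?_
  refine (hfun m).symm.trans ?_
  simp [φ, eR]
  exact ((hbc.equiv_tmul 1 m).trans (one_smul _ _)).symm

section Spec

variable {R : Type u} [CommRing R] {Z : Scheme.{u}} (g : Z ⟶ Spec (CommRingCat.of R))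
  (N : ModuleCat.{u} (CommRingCat.of R))

/-- The pullback of a tilde. -/
abbrev GN : Z.Modules := (Scheme.Modules.pullback g).obj (tilde N)

/-- The unit on global sections. -/
abbrev ηN (m : N) : Γ(GN g N, ⊤) :=
  pull g (tilde N) ⊤ (show Γ(tilde N, ⊤) from tilde.toOpen N ⊤ m)

/-- The scalars on `Z`. -/
abbrev σZ : R →+* Γ(Z, ⊤) :=
  g.appTop.hom.comp (Scheme.ΓSpecIso (CommRingCat.of R)).inv.hom

theorem isCoh_tilde [Module.Finite R N] : Coh.IsCoh (tilde N) :=
  Groth.L16.CohKernel.isCoh_of_tilde_charts _ fun x =>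
    ⟨CommRingCat.of R, 𝟙 _, inferInstance, N, ⟨x, rfl⟩, inferInstance,
      ⟨Scheme.Modules.restrictFunctorId.app _⟩⟩

variable [IsNoetherianRing R] [IsProper g] [Module.Finite R N]

theorem exists_kill (I : Ideal R) (hI : ∀ s ∈ I, IsIso (g ∣_ PrimeSpectrum.basicOpen s)) :
    ∃ n : ℕ, ∀ s ∈ I ^ n, (∀ m : N, ηN g N m = 0 → s • m = 0) ∧
      ∀ z : Γ(GN g N, ⊤), ∃ m : N, ηN g N m = σZ g s • z := by
  let S := Spec (CommRingCat.of R)
  let P := (Scheme.Modules.pushforward g).obj (GN g N)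
  have hN : Coh.IsCoh (tilde N) := isCoh_tilde N
  haveI : Coh.IsQCoh (tilde N) := hN.1
  have hP : Coh.IsCoh P := Groth.L16.Exist.isCoh_pushforward g (Groth.L16.AffineBC.isCoh_pullback g hN)
  haveI : Coh.IsQCoh P := hP.1
  haveI : Module.Finite Γ(S, ⊤) Γ(tilde N, ⊤) := Groth.L20.ModStalk.finite_sections _ hN (isAffineOpen_top S)
  haveI : Module.Finite Γ(S, ⊤) Γ(P, ⊤) := Groth.L20.ModStalk.finite_sections _ hP (isAffineOpen_top S)
  haveI : IsNoetherianRing Γ(S, ⊤) :=
    isNoetherianRing_of_ringEquiv R (Scheme.ΓSpecIso (CommRingCat.of R)).symm.commRingCatIsoToRingEquiv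
  let σ : R →+* Γ(S, ⊤) := (Scheme.ΓSpecIso (CommRingCat.of R)).inv.hom
  have hσ : Function.Bijective σ := ConcreteCategory.bijective_of_isIso (Scheme.ΓSpecIso (CommRingCat.of R)).inv
  let L : Γ(tilde N, ⊤) →ₗ[Γ(S, ⊤)] Γ(P, ⊤) :=
    { toFun := fun x => pull g (tilde N) ⊤ x
      map_add' := fun a b => map_add
        (((Scheme.Modules.pullbackPushforwardAdjunction g).unit.app (tilde N)).app ⊤).hom a b
      map_smul' := fun r x => pull_smul g (tilde N) r x }
  obtain ⟨n, hn⟩ := exists_pow_killing L (I.map σ) fun s' hs' => by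
    obtain ⟨s, hs, rfl⟩ := (Ideal.mem_map_iff_of_surjective σ hσ.2).1 hs'
    let D : S.Opens := S.basicOpen (σ s)
    have hD : IsAffineOpen D := (isAffineOpen_top S).basicOpen _
    haveI : IsIso (g ∣_ D) := by
      rw [show D = PrimeSpectrum.basicOpen s from basicOpen_eq_of_affine _]
      exact hI s hs
    have hb := bijective_pull_of_isIso_restrict g (tilde N) hD
    refine ⟨fun x hx => ?_, fun z => ?_⟩
    · refine Groth.L16.QCohSect.exists_pow_smul_eq_zero (isAffineOpen_top S) (tilde N) (σ s) x (hb.1 ?_)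
      refine (pull_rs g (tilde N) (S.basicOpen_le (σ s)) x).symm.trans ?_
      refine (congrArg (rs _ _) (show pull g (tilde N) ⊤ x = 0 from hx)).trans ?_
      exact (map_zero (((Scheme.Modules.pullback g).obj (tilde N)).presheaf.map _).hom).trans
        (map_zero (((Scheme.Modules.pullbackPushforwardAdjunction g).unit.app (tilde N)).app _).hom).symm
    · obtain ⟨w, hw⟩ := hb.2 (rs P (S.basicOpen_le (σ s)) z)
      obtain ⟨a, x, hx⟩ := Groth.L16.QCohSect.exists_pow_smul_eq_res (isAffineOpen_top S) (tilde N) (σ s) w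
      obtain ⟨b, hb0⟩ := Groth.L16.QCohSect.exists_pow_smul_eq_zero (isAffineOpen_top S) P (σ s)
        (L x - σ s ^ a • z) (by
          refine (map_sub (P.presheaf.map (homOfLE (S.basicOpen_le (σ s))).op).hom _ _).trans (sub_eq_zero.2 ?_)
          refine Eq.trans ?_ (rs_smul P (S.basicOpen_le (σ s)) _ z).symm
          refine (pull_rs g (tilde N) (S.basicOpen_le (σ s)) x).trans ?_
          refine (congrArg (pull g (tilde N) D) hx).trans ?_
          refine (pull_smul g (tilde N) _ w).trans ?_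
          rw [hw]
          rfl)
      refine ⟨b + a, σ s ^ b • x, ?_⟩
      rw [pow_add, mul_smul, map_smul]
      exact sub_eq_zero.1 ((smul_sub _ _ _).symm.trans hb0)
  haveI : IsIso (tilde.toOpen N ⊤) := tilde.isIso_toOpen_top
  have hbij : Function.Bijective fun m : N => (show Γ(tilde N, ⊤) from tilde.toOpen N ⊤ m) :=
    ConcreteCategory.bijective_of_isIso (tilde.toOpen N ⊤)
  refine ⟨n, fun s hs => ?_⟩
  obtain ⟨h1, h2⟩ := hn (σ s) (by rw [← Ideal.map_pow]; exact Ideal.mem_map_of_mem σ hs)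
  have hsm : ∀ m : N, (show Γ(tilde N, ⊤) from tilde.toOpen N ⊤ (s • m)) =
      σ s • (show Γ(tilde N, ⊤) from tilde.toOpen N ⊤ m) := fun m => (tilde.toOpen N ⊤).hom.map_smul s m
  refine ⟨fun m hm => hbij.1 ?_, fun z => ?_⟩
  · show (show Γ(tilde N, ⊤) from tilde.toOpen N ⊤ (s • m)) = _
    rw [hsm]
    exact (h1 _ hm).trans (map_zero (tilde.toOpen N ⊤).hom).symm
  · obtain ⟨x, hx⟩ := h2 z
    obtain ⟨m, rfl⟩ := hbij.2 x
    exact ⟨m, hx⟩

end Spec

end Groth.L17.ComplUnit
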