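import Groth.Agent.L17.ComplUnit.Geometry
import Groth.Agent.L17.ComplUnit.Killed
import Groth.Agent.L17.FSheaf.PullSysReal
import Groth.Agent.L16.Exist.PushPullTorsion

/-!
# The levels of the inverse image in the scheme over the completed ring
-/

set_option autoImplicit false
set_option linter.style.haveILetI false
set_option linter.unusedSectionVars false
set_option backward.isDefEq.respectTransparency false
set_option backward.isDefEq.respectTransparency.types false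
set_option maxHeartbeats 400000

universe u

open CategoryTheory CategoryTheory.Limits AlgebraicGeometry TopologicalSpace Opposite

noncomputable section

namespace Groth.L17.ComplUnit

open Groth.L17.FSheaf Groth.L17.FSheaf.Restr
open Groth.L18.Frame (rs ro pull pull_rs pull_smul rs_rs rs_self rs_smul ro_ro)
open Groth.L17.BC.PullSec (app_rs map_pull comp_pull_rs)
open Groth.L16.AffineBC (scal pullRes isBaseChange_pull)

theorem bijective_pull_open {X : Scheme.{u}} (U : X.Opens) (M : X.Modules) :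
    Function.Bijective (pull U.ι M U) := by
  have h := Adjunction.unit_leftAdjointUniq_hom_app (Scheme.Modules.restrictAdjunction U.ι)
    (Scheme.Modules.pullbackPushforwardAdjunction U.ι) M
  have e : U.ι ''ᵁ (U.ι ⁻¹ᵁ U) = U := by
    rw [Scheme.Opens.ι_preimage_self, Scheme.Opens.ι_image_top]
  rw [show pull U.ι M U = (fun z => ((Scheme.Modules.restrictFunctorIsoPullback U.ι).hom.app M).app (U.ι ⁻¹ᵁ U) z) ∘
    (fun m => (show Γ((Scheme.Modules.restrictFunctor U.ι).obj M, U.ι ⁻¹ᵁ U) from rs M (U.ι.image_preimage_le U) m))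
    from funext fun m => (congr(($h).app U m)).symm]
  refine (ConcreteCategory.bijective_of_isIso _).comp ⟨fun a a' ha => ?_, fun z => ⟨rs M e.ge z, ?_⟩⟩
  · have h1 := congrArg (rs M e.ge) (show rs M (U.ι.image_preimage_le U) a = rs M (U.ι.image_preimage_le U) a' from ha)
    rwa [rs_rs, rs_rs, rs_self, rs_self] at h1
  · exact (rs_rs M _ _ z).trans (rs_self M _ z)

theorem bijective_rs_eq {X : Scheme.{u}} (M : X.Modules) {U V : X.Opens} (e : V = U) :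
    Function.Bijective (rs M e.le) := by
  subst e
  exact ⟨fun a b h => (rs_self M _ a).symm.trans (h.trans (rs_self M _ b)), fun z => ⟨z, rs_self M _ z⟩⟩

/-- Morphisms out of a tilde agree if they agree on the generators. -/
theorem tilde_hom_ext {R : CommRingCat.{u}} {N : ModuleCat.{u} R} {Q : (Spec R).Modules} {a c : tilde N ⟶ Q}
    (h : ∀ m : N, a.app ⊤ (show Γ(tilde N, ⊤) from tilde.toOpen N ⊤ m) =
      c.app ⊤ (show Γ(tilde N, ⊤) from tilde.toOpen N ⊤ m)) : a = c := by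
  refine ((tilde.adjunction (R := R)).homEquiv N Q).injective ?_
  rw [Adjunction.homEquiv_unit, Adjunction.homEquiv_unit]
  apply ModuleCat.hom_ext
  apply LinearMap.ext
  intro m
  show (ConcreteCategory.hom (moduleSpecΓFunctor.map a)) ((tilde.adjunction.unit.app N).hom m) =
    (ConcreteCategory.hom (moduleSpecΓFunctor.map c)) ((tilde.adjunction.unit.app N).hom m)
  simp only [tilde.adjunction, tilde.toTildeΓNatIso, NatIso.ofComponents_hom_app, tilde.isoTop_hom]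
  exact h m

/-- A surjection with kernel killed by the kernel of the scalars is a base change. -/
theorem isBaseChange_of_surjective {R S M N : Type u} [CommRing R] [CommRing S] [Algebra R S] [AddCommGroup M]
    [Module R M] [AddCommGroup N] [Module R N] [Module S N] [IsScalarTower R S N] (l : M →ₗ[R] N)
    (hs : Function.Surjective (algebraMap R S)) (hl : Function.Surjective l)
    (hk : ∀ m, l m = 0 → m ∈ RingHom.ker (algebraMap R S) • (⊤ : Submodule R M)) : IsBaseChange S l := by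
  refine IsBaseChange.of_lift_unique _ fun Q _ _ _ _ g => ?_
  have hg : ∀ m, l m = 0 → g m = 0 := fun m hm => by
    refine Submodule.smul_induction_on (hk m hm) (fun a ha x _ => ?_) (fun a c ha hc => by rw [map_add, ha, hc, add_zero])
    rw [map_smul, ← algebraMap_smul S a, RingHom.mem_ker.1 ha, zero_smul]
  have hwd : ∀ m m', l m = l m' → g m = g m' := fun m m' h => by
    have h1 := hg (m - m') (by rw [map_sub, h, sub_self])
    rw [show m = (m - m') + m' by abel, map_add, h1, zero_add]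
  choose σ hσ using hl
  refine ⟨{ toFun := fun y => g (σ y), map_add' := fun y y' => ?_, map_smul' := fun s y => ?_ },
    LinearMap.ext fun m => hwd _ _ (hσ (l m)), fun g' hg' => LinearMap.ext fun y => ?_⟩
  · rw [← map_add]
    exact hwd _ _ (by rw [map_add, hσ, hσ, hσ])
  · obtain ⟨a, rfl⟩ := hs s
    show g (σ (algebraMap R S a • y)) = algebraMap R S a • g (σ y)
    rw [algebraMap_smul, algebraMap_smul, ← map_smul]
    exact hwd _ _ (by rw [map_smul, hσ, hσ])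
  · show g' y = g (σ y)
    rw [← hg']
    exact congrArg g' (hσ y).symm

section RsPull

variable {A B : Scheme.{u}} (j : A ⟶ B) (M : B.Modules) {U : B.Opens} {V : A.Opens} (e : V ≤ j ⁻¹ᵁ U)

theorem rspull_add (a c : Γ(M, U)) :
    rs ((Scheme.Modules.pullback j).obj M) e (pull j M U (a + c)) =
      rs ((Scheme.Modules.pullback j).obj M) e (pull j M U a) + rs ((Scheme.Modules.pullback j).obj M) e (pull j M U c) := by
  let P := (Scheme.Modules.pullback j).obj M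
  have h1 : pull j M U (a + c) = ((pull j M U a : Γ(P, j ⁻¹ᵁ U)) + pull j M U c : Γ(P, j ⁻¹ᵁ U)) :=
    map_add (((Scheme.Modules.pullbackPushforwardAdjunction j).unit.app M).app U).hom a c
  have h2 := map_add (P.presheaf.map (homOfLE e).op).hom (pull j M U a : Γ(P, j ⁻¹ᵁ U)) (pull j M U c)
  exact (congrArg (rs P e) h1).trans h2

theorem rspull_smul (a : Γ(B, U)) (x : Γ(M, U)) :
    rs ((Scheme.Modules.pullback j).obj M) e (pull j M U (a • x)) =
      j.appLE U V e a • rs ((Scheme.Modules.pullback j).obj M) e (pull j M U x) := by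
  rw [pull_smul, rs_smul]
  rfl

end RsPull

variable {X Z : Scheme.{u}} (f : Z ⟶ X) {𝔛 𝔜 : FSch.Sys.{u}} (φ : 𝔛 ⟶ 𝔜) (hX : 𝔛.IsLocNoethFormal)
  (hY : 𝔜.IsLocNoethFormal) (p : ∀ k, 𝔛.X k ⟶ Z) (hp : ∀ k, 𝔛.ι k ≫ p (k + 1) = p k)
  (r : ∀ k, 𝔜.X k ⟶ X) (hr : ∀ k, 𝔜.ι k ≫ r (k + 1) = r k)
  (hsq : ∀ n, IsPullback (p n) ((φ : FSch.Hom 𝔛 𝔜).app n) f (r n))
  {W : X.Opens} (hW : IsAffineOpen W) (𝔐 : FSch.ModSys 𝔜)

section Gen

variable {T : Scheme.{u}} (𝔗 : FSch.Sys.{u}) (h : 𝔗.IsFormal) (V : (𝔗.X 0).Opens) (𝔑 : FSch.ModSys 𝔗)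
  (bb : ∀ k, (XU 𝔗 h V).X k ⟶ T) (hbb : ∀ k, (XU 𝔗 h V).ι k ≫ bb (k + 1) = bb k)

/-- The system on the open. -/
abbrev resSys : FSch.ModSys (XU 𝔗 h V) := FSch.ModSys.pullback (𝔗.restrictOpenι h V) 𝔑

/-- The restriction of the sections over the open. -/
def ρ (k : ℕ) (z : Γ(𝔑.F k, 𝔗.lvU h k V)) : Γ((resSys 𝔗 h V 𝔑).F k, ⊤) :=
  rs ((Scheme.Modules.pullback (𝔗.lvU h k V).ι).obj (𝔑.F k))
    (Scheme.Opens.ι_preimage_self (𝔗.lvU h k V)).ge (pull (𝔗.lvU h k V).ι (𝔑.F k) (𝔗.lvU h k V) z)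

theorem ρ_bijective (k : ℕ) : Function.Bijective (ρ 𝔗 h V 𝔑 k) := by
  have h1 := bijective_rs_eq ((Scheme.Modules.pullback (𝔗.lvU h k V).ι).obj (𝔑.F k))
    (Scheme.Opens.ι_preimage_self (𝔗.lvU h k V)).symm
  have h2 := bijective_pull_open (𝔗.lvU h k V) (𝔑.F k)
  exact h1.comp h2

theorem ρ_smul (k : ℕ) (c : Γ(𝔗.X k, 𝔗.lvU h k V)) (z : Γ(𝔑.F k, 𝔗.lvU h k V)) :
    ρ 𝔗 h V 𝔑 k (c • z) =
      ro (Scheme.Opens.ι_preimage_self (𝔗.lvU h k V)).ge ((𝔗.lvU h k V).ι.app _ c) • ρ 𝔗 h V 𝔑 k z := by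
  have h1 := congrArg (rs ((Scheme.Modules.pullback (𝔗.lvU h k V).ι).obj (𝔑.F k))
    (Scheme.Opens.ι_preimage_self (𝔗.lvU h k V)).ge) (pull_smul (𝔗.lvU h k V).ι (𝔑.F k) c z)
  exact h1.trans (rs_smul _ _ _ _)

include hbb in
theorem gTr_ρ (k : ℕ) (z : Γ(𝔑.F (k + 1), 𝔗.lvU h (k + 1) V)) :
    (gTr (XU 𝔗 h V) bb hbb (resSys 𝔗 h V 𝔑) k).app ⊤ (ρ 𝔗 h V 𝔑 (k + 1) z) =
      ρ 𝔗 h V 𝔑 k (tM 𝔗 h 𝔑 k V z : Γ(𝔑.F k, 𝔗.lvU h k V)) := by
  let h' := hU 𝔗 h V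
  have h1 := tM_pullback (𝔗.restrictOpenι h V) h' h 𝔑 k V z
  rw [tM_apply] at h1
  have e : ∀ j, (⊤ : ((XU 𝔗 h V).X j).Opens) ≤ (XU 𝔗 h V).lvU h' j (fU (𝔗.restrictOpenι h V) V) := fun j => by
    rw [← FSch.Hom.lvU_preimage (𝔗.restrictOpenι h V) h' h j V]
    exact (Scheme.Opens.ι_preimage_self _).ge
  refine (gTr_app _ _ _ _ k ⊤ _).trans ?_
  have h2 := congrArg (rs ((resSys 𝔗 h V 𝔑).F k) (e k)) h1
  rw [← app_rs, rs_rs] at h2
  refine Eq.trans ?_ (h2.trans (rs_rs _ _ _ _))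
  refine congrArg (Scheme.Modules.Hom.app ((resSys 𝔗 h V 𝔑).e k).hom _) ?_
  refine (congrArg (rs _ _) (pull_rs ((XU 𝔗 h V).ι k) ((resSys 𝔗 h V 𝔑).F (k + 1)) _ _).symm).trans ?_
  refine (rs_rs _ _ _ _).trans ?_
  refine Eq.symm ?_
  refine (congrArg (rs _ _) (pull_rs ((XU 𝔗 h V).ι k) ((resSys 𝔗 h V 𝔑).F (k + 1)) _ _).symm).trans ?_
  exact rs_rs _ _ _ _

end Gen

/-- The sections of the levels given by the elements of the completed module. -/
def θ₁ (k : ℕ) (m : RM 𝔜 hY.1 𝔐 (W₀ (W := W) r)) :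
    Γ((FSch.ModSys.pullback φ 𝔐).F k, 𝔛.lvU hX.1 k (V₀ (W := W) φ r)) :=
  rs ((Scheme.Modules.pullback (fL φ k)).obj (𝔐.F k)) (fU_le φ hX.1 hY.1 k (W₀ r))
    (pull (fL φ k) (𝔐.F k) _ (qM 𝔜 hY.1 𝔐 k (W₀ r) m))

theorem θ₁_add (k : ℕ) (m m' : RM 𝔜 hY.1 𝔐 (W₀ (W := W) r)) :
    θ₁ φ hX hY r 𝔐 k (m + m') = θ₁ φ hX hY r 𝔐 k m + θ₁ φ hX hY r 𝔐 k m' := by
  unfold θ₁
  have h1 := map_add (qM 𝔜 hY.1 𝔐 k (W₀ r)) m m'
  exact (congrArg (fun z => rs _ _ (pull (fL φ k) (𝔐.F k) _ z)) h1).trans (rspull_add (fL φ k) (𝔐.F k) _ _ _)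

theorem θ₁_smul (k : ℕ) (a : Rc (W := W) hY r) (m : RM 𝔜 hY.1 𝔐 (W₀ (W := W) r)) :
    θ₁ φ hX hY r 𝔐 k (a • m) =
      ((fL φ k).appLE (𝔜.lvU hY.1 k (W₀ r)) (𝔛.lvU hX.1 k (V₀ φ r)) (fU_le φ hX.1 hY.1 k (W₀ r))
        (pR 𝔜 hY.1 k (W₀ r) a)) • θ₁ φ hX hY r 𝔐 k m := by
  unfold θ₁
  have h1 := map_smul (qM 𝔜 hY.1 𝔐 k (W₀ r)) a m
  exact (congrArg (fun z => rs _ _ (pull (fL φ k) (𝔐.F k) _ z)) h1).trans (rspull_smul (fL φ k) (𝔐.F k) _ _ _)

/-- Scalars of the scheme over the completed ring on the levels. -/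
theorem scal_b (k : ℕ) (a : Rc (W := W) hY r) :
    (b f φ hX hY p r hr hsq hW k).app ⊤ (scal (Rc (W := W) hY r) (Z' f hY r hr hW) ⊤ a) =
      ro (Scheme.Opens.ι_preimage_self _).ge ((𝔛.lvU hX.1 k (V₀ φ r)).ι.app _
        ((fL φ k).appLE (𝔜.lvU hY.1 k (W₀ r)) (𝔛.lvU hX.1 k (V₀ φ r)) (fU_le φ hX.1 hY.1 k (W₀ r))
          (pR 𝔜 hY.1 k (W₀ r) a))) := by
  rw [scal_eq, Scheme.Hom.app_eq_appLE]
  have h1 := ConcreteCategory.congr_hom (FSch.appLE_comp_appLE_of_eq (b f φ hX hY p r hr hsq hW k)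
    (g f hY r hr hW) _ rfl ⊤ ⊤ ⊤ le_top le_top le_top) ((Scheme.ΓSpecIso (CommRingCat.of (Rc (W := W) hY r))).inv a)
  refine h1.trans ?_
  have hbg : b f φ hX hY p r hr hsq hW k ≫ g f hY r hr hW =
      (𝔛.lvU hX.1 k (V₀ φ r)).toSpecΓ ≫ Spec.map (CommRingCat.ofHom (pR 𝔜 hY.1 k (W₀ r)) ≫
        (fL φ k).appLE (𝔜.lvU hY.1 k (W₀ r)) (𝔛.lvU hX.1 k (V₀ φ r))
          (FSch.Hom.lvU_preimage φ hX.1 hY.1 k (W₀ r)).ge) := by
    rw [b_g, γ, ← Category.assoc, resLE_toSpecΓ, Category.assoc, ← Spec.map_comp]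
  refine (ConcreteCategory.congr_hom (congrArg (fun (t : _ ⟶ Spec (CommRingCat.of (Rc (W := W) hY r))) =>
    t.appLE ⊤ ⊤ le_top) hbg) _).trans ?_
  refine (appLE_toSpecΓ_comp _ _ a).trans ?_
  rw [Scheme.Hom.app_eq_appLE, Scheme.Opens.ι_appLE]
  show _ = ((𝔛.X k).presheaf.map _ ≫ (𝔛.X k).presheaf.map _) _
  rw [← Functor.map_comp]
  rfl

end Groth.L17.ComplUnit
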