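import Groth.Agent.L17.ComplUnit.Levels
import Groth.Agent.L17.ComplUnit.Chain

/-!
# The levels as quotients of the inverse image of the completed module
-/

set_option autoImplicit false
set_option linter.style.haveILetI false
set_option linter.unusedSectionVars false
set_option backward.isDefEq.respectTransparency false
set_option backward.isDefEq.respectTransparency.types false
set_option maxHeartbeats 800000

universe u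

open CategoryTheory CategoryTheory.Limits AlgebraicGeometry TopologicalSpace Opposite

noncomputable section

namespace Groth.L17.ComplUnit

open Groth.L17.FSheaf Groth.L17.FSheaf.Restr
open Groth.L18.Frame (rs ro pull pull_rs pull_smul rs_rs rs_self rs_smul ro_ro)
open Groth.L17.BC.PullSec (app_rs map_pull comp_inv_pull_rs)
open Groth.L16.AffineBC (scal pullRes isBaseChange_pull)

variable {X Z : Scheme.{u}} (f : Z ⟶ X) {𝔛 𝔜 : FSch.Sys.{u}} (φ : 𝔛 ⟶ 𝔜) (hX : 𝔛.IsLocNoethFormal)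
  (hY : 𝔜.IsLocNoethFormal) (p : ∀ k, 𝔛.X k ⟶ Z) (hp : ∀ k, 𝔛.ι k ≫ p (k + 1) = p k)
  (r : ∀ k, 𝔜.X k ⟶ X) (hr : ∀ k, 𝔜.ι k ≫ r (k + 1) = r k)
  (hsq : ∀ n, IsPullback (p n) ((φ : FSch.Hom 𝔛 𝔜).app n) f (r n))
  {W : X.Opens} (hW : IsAffineOpen W) (𝔐 : FSch.ModSys 𝔜)

/-- Morphisms out of the inverse image of a tilde agree if they agree on the generators. -/
theorem GN_hom_ext {R : Type u} [CommRing R] {A : Scheme.{u}} (h : A ⟶ Spec (CommRingCat.of R))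
    (N : ModuleCat.{u} (CommRingCat.of R)) {T : A.Modules} (a c : GN h N ⟶ T)
    (e : ∀ m : N, a.app ⊤ (ηN h N m) = c.app ⊤ (ηN h N m)) : a = c := by
  refine ((Scheme.Modules.pullbackPushforwardAdjunction h).homEquiv _ _).injective ?_
  refine tilde_hom_ext fun m => ?_
  rw [Adjunction.homEquiv_unit, Adjunction.homEquiv_unit]
  exact e m

/-- The scalars on the opens of the levels. -/
theorem appLE_bg (k : ℕ) (U : ((XU 𝔛 hX.1 (V₀ (W := W) φ r)).X k).Opens)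
    (e : U ≤ ((𝔛.lvU hX.1 k (V₀ φ r)).ι ≫ fL φ k) ⁻¹ᵁ 𝔜.lvU hY.1 k (W₀ r)) (a : Rc (W := W) hY r) :
    (b f φ hX hY p r hr hsq hW k ≫ g f hY r hr hW).appLE ⊤ U le_top
        ((Scheme.ΓSpecIso (CommRingCat.of (Rc (W := W) hY r))).inv a) =
      ((𝔛.lvU hX.1 k (V₀ φ r)).ι ≫ fL φ k).appLE (𝔜.lvU hY.1 k (W₀ r)) U e (pR 𝔜 hY.1 k (W₀ r) a) := by
  have hbg : b f φ hX hY p r hr hsq hW k ≫ g f hY r hr hW =
      (𝔛.lvU hX.1 k (V₀ φ r)).toSpecΓ ≫ Spec.map (CommRingCat.ofHom (pR 𝔜 hY.1 k (W₀ r)) ≫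
        (fL φ k).appLE (𝔜.lvU hY.1 k (W₀ r)) (𝔛.lvU hX.1 k (V₀ φ r))
          (FSch.Hom.lvU_preimage φ hX.1 hY.1 k (W₀ r)).ge) := by
    rw [b_g, γ, ← Category.assoc, resLE_toSpecΓ, Category.assoc, ← Spec.map_comp]
  refine (ConcreteCategory.congr_hom (congrArg (fun (t : _ ⟶ Spec (CommRingCat.of (Rc (W := W) hY r))) =>
    t.appLE ⊤ U le_top) hbg) _).trans ?_
  refine (appLE_toSpecΓ_comp _ _ a).trans ?_
  rw [← FSch.appLE_comp_appLE_of_eq (𝔛.lvU hX.1 k (V₀ φ r)).ι (fL φ k) _ rfl (𝔜.lvU hY.1 k (W₀ r))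
    (𝔛.lvU hX.1 k (V₀ φ r)) U (fU_le φ hX.1 hY.1 k (W₀ r)) (fun x _ => x.2) e, Scheme.Opens.ι_appLE]
  rfl

/-- The completed module. -/
abbrev MW : ModuleCat.{u} (CommRingCat.of (Rc (W := W) hY r)) :=
  ModuleCat.of (Rc (W := W) hY r) (RM 𝔜 hY.1 𝔐 (W₀ (W := W) r))

/-- The direct images of the levels. -/
abbrev Tk (k : ℕ) : (Z' f hY r hr hW).Modules :=
  gObj (XU 𝔛 hX.1 (V₀ φ r)) (b f φ hX hY p r hr hsq hW) (resSys 𝔛 hX.1 (V₀ (W := W) φ r) (FSch.ModSys.pullback φ 𝔐)) k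

/-- The inverse image of the completed module. -/
abbrev Gm : (Z' f hY r hr hW).Modules := GN (g f hY r hr hW) (MW hY r 𝔐)

/-- The sections given by the elements of the module. -/
def θ (k : ℕ) (m : RM 𝔜 hY.1 𝔐 (W₀ (W := W) r)) : Γ(Tk f φ hX hY p r hr hsq hW 𝔐 k, ⊤) :=
  ρ 𝔛 hX.1 (V₀ φ r) (FSch.ModSys.pullback φ 𝔐) k (θ₁ φ hX hY r 𝔐 k m)

theorem θ_add (k : ℕ) (m m' : RM 𝔜 hY.1 𝔐 (W₀ (W := W) r)) :
    θ f φ hX hY p r hr hsq hW 𝔐 k (m + m') =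
      θ f φ hX hY p r hr hsq hW 𝔐 k m + θ f φ hX hY p r hr hsq hW 𝔐 k m' := by
  have h1 := congrArg (ρ 𝔛 hX.1 (V₀ φ r) (FSch.ModSys.pullback φ 𝔐) k) (θ₁_add φ hX hY r 𝔐 k m m')
  exact h1.trans (rspull_add _ _ _ _ _)

theorem θ_smul (k : ℕ) (a : Rc (W := W) hY r) (m : RM 𝔜 hY.1 𝔐 (W₀ (W := W) r)) :
    θ f φ hX hY p r hr hsq hW 𝔐 k (a • m) =
      scal (Rc (W := W) hY r) (Z' f hY r hr hW) ⊤ a • θ f φ hX hY p r hr hsq hW 𝔐 k m := by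
  have h1 := congrArg (ρ 𝔛 hX.1 (V₀ φ r) (FSch.ModSys.pullback φ 𝔐) k) (θ₁_smul φ hX hY r 𝔐 k a m)
  refine (h1.trans (ρ_smul _ _ _ _ k _ _)).trans ?_
  exact congrArg (· • ρ 𝔛 hX.1 (V₀ φ r) (FSch.ModSys.pullback φ 𝔐) k (θ₁ φ hX hY r 𝔐 k m))
    (scal_b f φ hX hY p r hr hsq hW k a).symm

theorem exists_v (k : ℕ) :
    ∃ v : Gm f hY r hr hW 𝔐 ⟶ Tk f φ hX hY p r hr hsq hW 𝔐 k,
      ∀ m : RM 𝔜 hY.1 𝔐 (W₀ (W := W) r),
        v.app ⊤ (ηN (g f hY r hr hW) (MW hY r 𝔐) m) = θ f φ hX hY p r hr hsq hW 𝔐 k m := by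
  obtain ⟨γ', hγ⟩ := Groth.L16.Exist.exists_tilde_hom (MW (W := W) hY r 𝔐)
    ((Scheme.Modules.pushforward (g f hY r hr hW)).obj (Tk f φ hX hY p r hr hsq hW 𝔐 k))
    (θ f φ hX hY p r hr hsq hW 𝔐 k) (θ_add f φ hX hY p r hr hsq hW 𝔐 k) (fun c m => by
      refine (θ_smul f φ hX hY p r hr hsq hW 𝔐 k c m).trans ?_
      show _ = (show Γ(Z' f hY r hr hW, ⊤) from (g f hY r hr hW).app ⊤ ((Scheme.ΓSpecIso _).inv c)) • θ f φ hX hY p r hr hsq hW 𝔐 k m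
      rw [scal_eq, Scheme.Hom.app_eq_appLE]
      rfl)
  refine ⟨((Scheme.Modules.pullbackPushforwardAdjunction (g f hY r hr hW)).homEquiv _ _).symm γ', fun m => ?_⟩
  have h := ((Scheme.Modules.pullbackPushforwardAdjunction (g f hY r hr hW)).homEquiv _ _).apply_symm_apply γ'
  rw [Adjunction.homEquiv_unit] at h
  exact (ConcreteCategory.congr_hom (congrArg (fun t => Scheme.Modules.Hom.app t (⊤ : (Spec _).Opens)) h)
    (show Γ(tilde (MW (W := W) hY r 𝔐), ⊤) from tilde.toOpen (MW (W := W) hY r 𝔐) ⊤ m)).trans (hγ m)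

/-- The comparison morphisms. -/
def v (k : ℕ) : Gm f hY r hr hW 𝔐 ⟶ Tk f φ hX hY p r hr hsq hW 𝔐 k :=
  (exists_v f φ hX hY p r hr hsq hW 𝔐 k).choose

theorem v_η (k : ℕ) (m : RM 𝔜 hY.1 𝔐 (W₀ (W := W) r)) :
    (v f φ hX hY p r hr hsq hW 𝔐 k).app ⊤ (ηN (g f hY r hr hW) (MW hY r 𝔐) m) =
      θ f φ hX hY p r hr hsq hW 𝔐 k m :=
  (exists_v f φ hX hY p r hr hsq hW 𝔐 k).choose_spec m

include hp in
theorem tM_θ₁ (k : ℕ) (m : RM 𝔜 hY.1 𝔐 (W₀ (W := W) r)) :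
    (tM 𝔛 hX.1 (FSch.ModSys.pullback φ 𝔐) k (V₀ φ r) (θ₁ φ hX hY r 𝔐 (k + 1) m) :
      Γ((FSch.ModSys.pullback φ 𝔐).F k, 𝔛.lvU hX.1 k (V₀ φ r))) = θ₁ φ hX hY r 𝔐 k m := by
  have h1 := tM_pullback φ hX.1 hY.1 𝔐 k (W₀ r) (qM 𝔜 hY.1 𝔐 (k + 1) (W₀ r) m)
  refine h1.trans ?_
  exact congrArg (fun z => rs _ _ (pull (fL φ k) (𝔐.F k) _ z)) (LinearMap.congr_fun (tM_qM 𝔜 hY.1 𝔐 k) m)

/-- The transition maps of the direct images of the levels. -/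
abbrev trk (k : ℕ) : Tk f φ hX hY p r hr hsq hW 𝔐 (k + 1) ⟶ Tk f φ hX hY p r hr hsq hW 𝔐 k :=
  gTr (XU 𝔛 hX.1 (V₀ (W := W) φ r)) (b f φ hX hY p r hr hsq hW) (b_comm f φ hX hY p hp r hr hsq hW)
    (resSys 𝔛 hX.1 (V₀ (W := W) φ r) (FSch.ModSys.pullback φ 𝔐)) k

theorem trk_θ (k : ℕ) (m : RM 𝔜 hY.1 𝔐 (W₀ (W := W) r)) :
    (trk f φ hX hY p hp r hr hsq hW 𝔐 k).app ⊤ (θ f φ hX hY p r hr hsq hW 𝔐 (k + 1) m) =
      θ f φ hX hY p r hr hsq hW 𝔐 k m := by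
  have h1 := gTr_ρ 𝔛 hX.1 (V₀ (W := W) φ r) (FSch.ModSys.pullback φ 𝔐) (b f φ hX hY p r hr hsq hW)
    (b_comm f φ hX hY p hp r hr hsq hW) k (θ₁ φ hX hY r 𝔐 (k + 1) m)
  have h2 := congrArg (ρ 𝔛 hX.1 (V₀ (W := W) φ r) (FSch.ModSys.pullback φ 𝔐) k) (tM_θ₁ φ hX hY p hp r 𝔐 k m)
  exact h1.trans h2

theorem v_gTr (k : ℕ) :
    v f φ hX hY p r hr hsq hW 𝔐 (k + 1) ≫ trk f φ hX hY p hp r hr hsq hW 𝔐 k =
      v f φ hX hY p r hr hsq hW 𝔐 k := by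
  refine GN_hom_ext (g f hY r hr hW) (MW (W := W) hY r 𝔐) _ _ fun m => ?_
  have h1 := congrArg ((trk f φ hX hY p hp r hr hsq hW 𝔐 k).app ⊤) (v_η f φ hX hY p r hr hsq hW 𝔐 (k + 1) m)
  exact (h1.trans (trk_θ f φ hX hY p hp r hr hsq hW 𝔐 k m)).trans (v_η f φ hX hY p r hr hsq hW 𝔐 k m).symm

variable (hr0 : IsClosedImmersion (r 0)) (h𝔐 : 𝔐.IsCoh)

include hr0 h𝔐 in
/-- The comparison morphisms are the reductions on affine opens. -/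
theorem v_spec (k : ℕ) (A : (Z' f hY r hr hW).Opens) (hA : IsAffineOpen A) :
    Function.Surjective ((v f φ hX hY p r hr hsq hW 𝔐 k).app A) ∧ ∀ m, (v f φ hX hY p r hr hsq hW 𝔐 k).app A m = 0 ↔
      m ∈ (J 𝔜 hY.1 (W₀ r)).map (scal (Rc (W := W) hY r) (Z' f hY r hr hW) A) ^ (k + 1) •
        (⊤ : Submodule Γ(Z' f hY r hr hW, A) Γ(Gm f hY r hr hW 𝔐, A)) := by
  haveI := isClosedImmersion_b f φ hX hY p r hr hsq hW hr0 k
  have hW0 := isAffineOpen_W₀ (𝔜 := 𝔜) r hW hr0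
  haveI : Coh.IsQCoh (𝔐.F k) := (h𝔐 k).1
  let R := Rc (W := W) hY r
  let M := MW (W := W) hY r 𝔐
  let G := Gm f hY r hr hW 𝔐
  let gg := g f hY r hr hW
  let bk := b f φ hX hY p r hr hsq hW k
  let O := (𝔛.lvU hX.1 k (V₀ (W := W) φ r))
  let u := bk ⁻¹ᵁ A
  let Wk := 𝔜.lvU hY.1 k (W₀ (W := W) r)
  let ψ := O.ι ≫ fL φ k
  have hu : IsAffineOpen u := hA.preimage bk
  have hWk : IsAffineOpen Wk := isAffineOpen_lvU 𝔜 hY.1 hW0 k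
  have eψ : u ≤ ψ ⁻¹ᵁ Wk := fun x _ => fU_le φ hX.1 hY.1 k (W₀ r) x.2
  let P := (Scheme.Modules.pullback ψ).obj (𝔐.F k)
  let T := Tk f φ hX hY p r hr hsq hW 𝔐 k
  letI aRA : Algebra R Γ(Z' f hY r hr hW, A) := (scal R (Z' f hY r hr hW) A).toAlgebra
  letI aRS : Algebra R Γ(𝔜.X k, Wk) := (pR 𝔜 hY.1 k (W₀ r)).toAlgebra
  letI aAO : Algebra Γ(Z' f hY r hr hW, A) Γ((XU 𝔛 hX.1 (V₀ (W := W) φ r)).X k, u) := (bk.app A).hom.toAlgebra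
  letI aSO : Algebra Γ(𝔜.X k, Wk) Γ((XU 𝔛 hX.1 (V₀ (W := W) φ r)).X k, u) := (ψ.appLE Wk u eψ).hom.toAlgebra
  letI aRO : Algebra R Γ((XU 𝔛 hX.1 (V₀ (W := W) φ r)).X k, u) :=
    ((ψ.appLE Wk u eψ).hom.comp (pR 𝔜 hY.1 k (W₀ r))).toAlgebra
  haveI : IsScalarTower R Γ(𝔜.X k, Wk) Γ((XU 𝔛 hX.1 (V₀ (W := W) φ r)).X k, u) :=
    IsScalarTower.of_algebraMap_eq fun _ => rfl
  haveI : IsScalarTower R Γ(Z' f hY r hr hW, A) Γ((XU 𝔛 hX.1 (V₀ (W := W) φ r)).X k, u) :=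
    IsScalarTower.of_algebraMap_eq fun a => by
      show ψ.appLE Wk u eψ (pR 𝔜 hY.1 k (W₀ r) a) = bk.app A (scal R (Z' f hY r hr hW) A a)
      rw [scal_eq, Scheme.Hom.app_eq_appLE]
      exact (appLE_bg f φ hX hY p r hr hsq hW k u eψ a).symm.trans
        (ConcreteCategory.congr_hom (FSch.appLE_comp_appLE_of_eq bk gg _ rfl ⊤ A u le_top le_rfl le_top) _).symm
  letI mRP : Module R Γ(G, A) := Module.compHom _ (scal R (Z' f hY r hr hW) A)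
  haveI : IsScalarTower R Γ(Z' f hY r hr hW, A) Γ(G, A) := IsScalarTower.of_algebraMap_smul fun _ _ => rfl
  letI mSN : Module Γ(𝔜.X k, Wk) (LM 𝔜 hY.1 𝔐 k (W₀ (W := W) r)) :=
    (inferInstance : Module Γ(𝔜.X k, Wk) Γ(𝔐.F k, Wk))
  haveI : IsScalarTower R Γ(𝔜.X k, Wk) (LM 𝔜 hY.1 𝔐 k (W₀ (W := W) r)) :=
    IsScalarTower.of_algebraMap_smul fun _ _ => rfl
  letI mSQ : Module Γ(𝔜.X k, Wk) Γ(P, u) := Module.compHom _ (ψ.appLE Wk u eψ).hom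
  letI mRQ : Module R Γ(P, u) := Module.compHom _ ((ψ.appLE Wk u eψ).hom.comp (pR 𝔜 hY.1 k (W₀ r)))
  haveI : IsScalarTower R Γ((XU 𝔛 hX.1 (V₀ (W := W) φ r)).X k, u) Γ(P, u) :=
    IsScalarTower.of_algebraMap_smul fun _ _ => rfl
  haveI : IsScalarTower Γ(𝔜.X k, Wk) Γ((XU 𝔛 hX.1 (V₀ (W := W) φ r)).X k, u) Γ(P, u) :=
    IsScalarTower.of_algebraMap_smul fun _ _ => rfl
  haveI : IsScalarTower R Γ(𝔜.X k, Wk) Γ(P, u) := IsScalarTower.of_algebraMap_smul fun _ _ => rfl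
  let U' := Γ((resSys 𝔛 hX.1 (V₀ (W := W) φ r) (FSch.ModSys.pullback φ 𝔐)).F k, u)
  letI mAT : Module Γ(Z' f hY r hr hW, A) U' := (inferInstance : Module Γ(Z' f hY r hr hW, A) Γ(T, A))
  letI mRT : Module R U' := Module.compHom _ ((ψ.appLE Wk u eψ).hom.comp (pR 𝔜 hY.1 k (W₀ r)))
  haveI : IsScalarTower R Γ((XU 𝔛 hX.1 (V₀ (W := W) φ r)).X k, u) U' :=
    IsScalarTower.of_algebraMap_smul fun _ _ => rfl
  haveI : IsScalarTower Γ(Z' f hY r hr hW, A) Γ((XU 𝔛 hX.1 (V₀ (W := W) φ r)).X k, u) U' :=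
    IsScalarTower.of_algebraMap_smul fun _ _ => rfl
  haveI : IsScalarTower R Γ(Z' f hY r hr hW, A) U' := IsScalarTower.of_algebraMap_smul fun a x => by
    rw [← algebraMap_smul Γ((XU 𝔛 hX.1 (V₀ (W := W) φ r)).X k, u) (algebraMap R Γ(Z' f hY r hr hW, A) a) x,
      ← IsScalarTower.algebraMap_apply, algebraMap_smul]
  -- from the global sections of the tilde to the affine open
  let S := Spec (CommRingCat.of R)
  letI aS : Algebra R Γ(S, ⊤) := (Scheme.ΓSpecIso (CommRingCat.of R)).inv.hom.toAlgebra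
  letI mRt : Module R Γ(tilde M, ⊤) := Module.compHom _ (Scheme.ΓSpecIso (CommRingCat.of R)).inv.hom
  haveI : IsScalarTower R Γ(S, ⊤) Γ(tilde M, ⊤) := IsScalarTower.of_algebraMap_smul fun _ _ => rfl
  let l0 : M →ₗ[R] Γ(tilde M, ⊤) :=
    { toFun := fun m => tilde.toOpen M ⊤ m
      map_add' := fun a c => (tilde.toOpen M ⊤).hom.map_add a c
      map_smul' := fun a m => (tilde.toOpen M ⊤).hom.map_smul a m }
  haveI : IsIso (tilde.toOpen M ⊤) := tilde.isIso_toOpen_top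
  have hb0 : Function.Bijective l0 := ConcreteCategory.bijective_of_isIso (tilde.toOpen M ⊤)
  have h0 : IsBaseChange Γ(S, ⊤) l0 := isBaseChange_of_surjective l0
    (ConcreteCategory.bijective_of_isIso (Scheme.ΓSpecIso (CommRingCat.of R)).inv).2 hb0.2
    fun m hm => by
      rw [hb0.1 (hm.trans (map_zero l0).symm)]
      exact zero_mem _
  haveI : Coh.IsQCoh (tilde M) := Groth.L18.TildeF.isQCoh_tilde M
  letI aSA : Algebra Γ(S, ⊤) Γ(Z' f hY r hr hW, A) := (gg.appLE ⊤ A le_top).hom.toAlgebra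
  letI := Module.compHom Γ(G, A) (gg.appLE ⊤ A le_top).hom
  haveI : IsScalarTower Γ(S, ⊤) Γ(Z' f hY r hr hW, A) Γ(G, A) := IsScalarTower.of_algebraMap_smul fun _ _ => rfl
  haveI : IsScalarTower R Γ(S, ⊤) Γ(Z' f hY r hr hW, A) := IsScalarTower.of_algebraMap_eq fun a => scal_eq f hY r hr hW A a
  haveI : IsScalarTower R Γ(S, ⊤) Γ(G, A) := IsScalarTower.of_algebraMap_smul fun a x => by
    show gg.appLE ⊤ A le_top ((Scheme.ΓSpecIso (CommRingCat.of R)).inv a) • x = scal R (Z' f hY r hr hW) A a • x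
    rw [scal_eq]
  have h1 := h0.comp (isBaseChange_pull gg (tilde M) (isAffineOpen_top S) hA (le_top : A ≤ gg ⁻¹ᵁ ⊤))
  -- from the module to the level
  have h2 : IsBaseChange Γ(𝔜.X k, Wk) (qM 𝔜 hY.1 𝔐 k (W₀ r)) :=
    isBaseChange_of_surjective _ (pR_surjective 𝔜 hY.1 hW0 k) ((RM_spec 𝔜 𝔐 hY h𝔐 hW0).2 k).1 fun m hm => by
      rw [show RingHom.ker (algebraMap R Γ(𝔜.X k, Wk)) = J 𝔜 hY.1 (W₀ r) ^ (k + 1) from (O_spec 𝔜 hY hW0).2.2 k]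
      exact (((RM_spec 𝔜 𝔐 hY h𝔐 hW0).2 k).2 m).1 hm
  let l3 : LM 𝔜 hY.1 𝔐 k (W₀ r) →ₗ[Γ(𝔜.X k, Wk)] Γ(P, u) := pullRes ψ (𝔐.F k) eψ
  have h3 : IsBaseChange Γ((XU 𝔛 hX.1 (V₀ (W := W) φ r)).X k, u) l3 := isBaseChange_pull ψ (𝔐.F k) hWk hu eψ
  let c := ((Scheme.Modules.pullbackComp O.ι (fL φ k)).inv.app (𝔐.F k)).app u
  let e0 : Γ(P, u) →ₗ[Γ((XU 𝔛 hX.1 (V₀ (W := W) φ r)).X k, u)] U' :=
    { toFun := fun x => c x
      map_add' := fun a b => map_add _ a b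
      map_smul' := fun a x => Scheme.Modules.Hom.app_smul _ a x }
  let e := LinearEquiv.ofBijective (σ₁₂ := RingHom.id _) (σ₂₁ := RingHom.id _) e0
    (ConcreteCategory.bijective_of_isIso c)
  let vA : Γ(G, A) →ₗ[Γ(Z' f hY r hr hW, A)] U' :=
    { toFun := fun x => (v f φ hX hY p r hr hsq hW 𝔐 k).app A x
      map_add' := fun a b => map_add _ a b
      map_smul' := fun a x => Scheme.Modules.Hom.app_smul _ a x }
  have hcut := cutOver_b f φ hX hY p r hr hsq hW hr0 k A hA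
  obtain ⟨hs, hk⟩ := surjective_ker_of_chain _ h1 _ h2 l3 h3 e vA (fun m => by
    show (v f φ hX hY p r hr hsq hW 𝔐 k).app A (rs G (le_top : A ≤ ⊤) (ηN gg M m)) =
      c (rs P eψ (pull ψ (𝔐.F k) Wk (qM 𝔜 hY.1 𝔐 k (W₀ r) m)))
    have e1 : u ≤ O.ι ⁻¹ᵁ (fL φ k ⁻¹ᵁ Wk) := eψ
    refine (app_rs (v f φ hX hY p r hr hsq hW 𝔐 k) (le_top : A ≤ ⊤) _).trans ?_
    refine (congrArg (rs T _) (v_η f φ hX hY p r hr hsq hW 𝔐 k m)).trans ?_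
    refine Eq.trans ?_ (comp_inv_pull_rs O.ι (fL φ k) (𝔐.F k) Wk _ u e1).symm
    show rs ((Scheme.Modules.pullback O.ι).obj ((Scheme.Modules.pullback (fL φ k)).obj (𝔐.F k)))
      (bk.preimage_mono (le_top : A ≤ ⊤)) (rs _ _ (pull O.ι _ _ (rs _ _ _))) = _
    rw [← pull_rs, rs_rs, rs_rs]) hcut.1
  refine ⟨hs, fun m => (hk m).trans (Iff.of_eq (congrArg (fun I : Ideal Γ(Z' f hY r hr hW, A) =>
    m ∈ I • (⊤ : Submodule Γ(Z' f hY r hr hW, A) Γ(G, A))) ?_))⟩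
  exact hcut.2

end Groth.L17.ComplUnit
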