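import Groth.Agent.L17.FSheaf.FormalPush
import Groth.Agent.L16.Rees.FormalFunctions
import Groth.Agent.L16.Exist.PushPull

/-!
# Formal functions over a complete ring for quotients with the kernels of the reductions
-/

set_option autoImplicit false
set_option linter.style.haveILetI false
set_option linter.unusedSectionVars false
set_option backward.isDefEq.respectTransparency false
set_option backward.isDefEq.respectTransparency.types false

universe u

open CategoryTheory CategoryTheory.Limits AlgebraicGeometry TopologicalSpace Opposite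

noncomputable section

namespace Groth.L17.ComplUnit

open Groth.L16.AffineBC (scal)

variable {R : Type u} [CommRing R] (J : Ideal R) {Z : Scheme.{u}} [Z.Over (Spec (CommRingCat.of R))]

/-- Sections as a module over the base. -/
@[reducible] def baseMod (G : Z.Modules) : Module R Γ(G, ⊤) :=
  Module.compHom _ (scal R Z ⊤)

variable [IsNoetherianRing R] [IsProper (Z ↘ Spec (CommRingCat.of R))]

theorem finite_baseMod {G : Z.Modules} (hG : Coh.IsCoh G) :
    letI := baseMod (R := R) G
    Module.Finite R Γ(G, ⊤) := by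
  letI := baseMod (R := R) G
  let g := Z ↘ Spec (CommRingCat.of R)
  let P := (Scheme.Modules.pushforward g).obj G
  haveI : Module.Finite Γ(Spec (CommRingCat.of R), ⊤) Γ(P, ⊤) :=
    Groth.L20.ModStalk.finite_sections _ (Groth.L16.Exist.isCoh_pushforward g hG) (isAffineOpen_top _)
  obtain ⟨k, c, hc⟩ := Module.Finite.exists_fin (R := Γ(Spec (CommRingCat.of R), ⊤)) (M := Γ(P, ⊤))
  refine ⟨Submodule.fg_def.2 ⟨Set.range (fun i => (show Γ(G, ⊤) from c i)), Set.finite_range _,
    eq_top_iff.2 fun z _ => ?_⟩⟩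
  obtain ⟨r, hr⟩ := (Submodule.mem_span_range_iff_exists_fun _).1 (hc ▸ Submodule.mem_top :
    (show Γ(P, ⊤) from z) ∈ Submodule.span _ (Set.range c))
  refine (Submodule.mem_span_range_iff_exists_fun R).2 ⟨fun i => (Scheme.ΓSpecIso (CommRingCat.of R)).hom (r i), ?_⟩
  refine Eq.trans (Finset.sum_congr rfl fun i _ => ?_) hr
  show scal R Z ⊤ _ • (show Γ(G, ⊤) from c i) = (show Γ(Z, ⊤) from g.app ⊤ (r i)) • (show Γ(G, ⊤) from c i)
  refine congrArg (· • (show Γ(G, ⊤) from c i)) ?_
  show Z.presheaf.map (homOfLE le_top).op (g.appTop ((Scheme.ΓSpecIso (CommRingCat.of R)).inv _)) = _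
  rw [show (Scheme.ΓSpecIso (CommRingCat.of R)).inv ((Scheme.ΓSpecIso (CommRingCat.of R)).hom (r i)) = r i from
    ConcreteCategory.congr_hom (Scheme.ΓSpecIso (CommRingCat.of R)).hom_inv_id (r i)]
  exact ConcreteCategory.congr_hom (CategoryTheory.Functor.map_id Z.presheaf (op ⊤)) _

variable {G : Z.Modules}

theorem mem_pow_smul_top (m : ℕ) {z : Γ(G, ⊤)}
    (hz : z ∈ J.map (scal R Z ⊤) ^ m • (⊤ : Submodule Γ(Z, ⊤) Γ(G, ⊤))) :
    letI := baseMod (R := R) G
    z ∈ J ^ m • (⊤ : Submodule R Γ(G, ⊤)) := by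
  letI := baseMod (R := R) G
  rw [← Ideal.map_pow] at hz
  refine Submodule.smul_induction_on hz (fun b hb t _ => ?_) (fun a b ha hb => add_mem ha hb)
  induction hb using Submodule.span_induction generalizing t with
  | mem b hb =>
    obtain ⟨a, ha, rfl⟩ := hb
    exact Submodule.smul_mem_smul (show a ∈ J ^ m from ha) trivial
  | zero => rw [zero_smul]; exact zero_mem _
  | add a b _ _ ha hb => rw [add_smul]; exact add_mem (ha t trivial) (hb t trivial)
  | smul a b _ hb => rw [smul_eq_mul, mul_comm, mul_smul]; exact hb (a • t) trivial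

variable [IsAdicComplete J R] {T : ℕ → Z.Modules} (t : ∀ k, T (k + 1) ⟶ T k) (v : ∀ k, G ⟶ T k)
  (ht : ∀ k, v (k + 1) ≫ t k = v k)

include ht in
/-- The global sections are the limit of the global sections of the quotients. -/
theorem limit_bijective (hG : Coh.IsCoh G)
    (hv : ∀ k, ∀ W : Z.Opens, IsAffineOpen W → Function.Surjective ((v k).app W) ∧ ∀ m, (v k).app W m = 0 ↔
      m ∈ J.map (scal R Z W) ^ (k + 1) • (⊤ : Submodule Γ(Z, W) Γ(G, W))) :
    (∀ z : Γ(G, ⊤), (∀ k, (v k).app ⊤ z = 0) → z = 0) ∧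
    ∀ y : ∀ k, Γ(T k, ⊤), (∀ k, (t k).app ⊤ (y (k + 1)) = y k) → ∃ z, ∀ k, (v k).app ⊤ z = y k := by
  haveI : IsLocallyNoetherian Z := LocallyOfFiniteType.isLocallyNoetherian (Z ↘ Spec (CommRingCat.of R))
  haveI : CompactSpace Z := QuasiCompact.compactSpace_of_compactSpace (Z ↘ Spec (CommRingCat.of R))
  haveI : AlgebraicGeometry.IsNoetherian Z := ⟨⟩
  obtain ⟨⟨c, hc⟩, hr⟩ := Groth.L17.FSheaf.formal_of_quotients J t v ht hG hv
  letI := baseMod (R := R) G
  haveI := finite_baseMod (R := R) hG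
  haveI : IsAdicComplete J Γ(G, ⊤) := Groth.L16.Rees.isAdicComplete_of_finite J _
  have hmono : ∀ {i k : ℕ}, i ≤ k → ∀ z : Γ(G, ⊤), (v k).app ⊤ z = 0 → (v i).app ⊤ z = 0 := fun {i k} hik => by
    induction k, hik using Nat.le_induction with
    | base => exact fun z hz => hz
    | succ k _ ih =>
      refine fun z hz => ih z ?_
      rw [← ht]
      exact (congrArg ((t k).app ⊤) hz).trans (map_zero _)
  have hkill : ∀ (m : ℕ) (z : Γ(G, ⊤)), z ∈ J ^ (m + 1) • (⊤ : Submodule R Γ(G, ⊤)) → (v m).app ⊤ z = 0 := by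
    intro m z hz
    refine TopCat.Presheaf.section_ext (⟨(T m).val.presheaf, (T m).isSheaf⟩ : TopCat.Sheaf Ab.{u} Z) ⊤ _ _
      fun x hx => ?_
    obtain ⟨_, ⟨W, hW, rfl⟩, hxW, -⟩ := Z.isBasis_affineOpens.exists_subset_of_mem_open (Set.mem_univ x) isOpen_univ
    let P := (T m).val.presheaf
    show TopCat.Presheaf.germ P ⊤ x hx ((v m).app ⊤ z) = TopCat.Presheaf.germ P ⊤ x hx (0 : Γ(T m, ⊤))
    rw [← TopCat.Presheaf.germ_res_apply P (homOfLE (le_top : W ≤ ⊤)) x hxW,
      ← TopCat.Presheaf.germ_res_apply P (homOfLE (le_top : W ≤ ⊤)) x hxW]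
    refine congrArg (TopCat.Presheaf.germ P W x hxW) ?_
    show Groth.L18.Frame.rs (T m) le_top ((v m).app ⊤ z) = Groth.L18.Frame.rs (T m) le_top 0
    refine Eq.trans ?_ (map_zero ((T m).presheaf.map (homOfLE le_top).op).hom).symm
    refine (Groth.L16.HomSh.app_rs (v m) le_top z).symm.trans (((hv m W hW).2 _).2 ?_)
    rw [← Ideal.map_pow]
    refine Submodule.smul_induction_on hz (fun a ha b _ => ?_) (fun a b ha hb => ?_)
    · show Groth.L18.Frame.rs G le_top (scal R Z ⊤ a • b : Γ(G, ⊤)) ∈ _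
      rw [Groth.L18.Frame.rs_smul]
      refine Submodule.smul_mem_smul ?_ trivial
      have e : Groth.L18.Frame.ro (le_top : W ≤ ⊤) (scal R Z ⊤ a) = scal R Z W a := by
        show (Z.presheaf.map _ ≫ Z.presheaf.map _) _ = _
        rw [← Functor.map_comp]
        rfl
      rw [e]
      exact Ideal.mem_map_of_mem _ ha
    · show Groth.L18.Frame.rs G le_top (a + b) ∈ _
      exact (congrArg (· ∈ _) (map_add (G.presheaf.map (homOfLE (le_top : W ≤ ⊤)).op).hom a b)).mpr (add_mem ha hb)
  refine ⟨fun z hz => IsHausdorff.haus (I := J) inferInstance z fun m => ?_, fun y hy => ?_⟩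
  · rw [SModEq.zero]
    have h1 := mem_pow_smul_top J (m + c - c) (hc (m + c) (Nat.le_add_left c m) z (hz _))
    rwa [Nat.add_sub_cancel] at h1
  · choose z hz using hr y hy
    have hzz : ∀ {i k : ℕ}, i ≤ k → (v i).app ⊤ (z k) = y i := fun {i k} hik => by
      induction k, hik using Nat.le_induction with
      | base => exact hz i
      | succ k hk _ =>
        have h1 : ∀ j, j ≤ k + 1 → (v j).app ⊤ (z (k + 1)) = y j := fun j hj =>
          Nat.decreasingInduction (fun j _ ih => by
            rw [← ht, ← hy]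
            exact congrArg ((t j).app ⊤) ih) (hz (k + 1)) hj
        exact h1 i (hk.trans (Nat.le_succ k))
    obtain ⟨L, hL⟩ := IsPrecomplete.prec (I := J) inferInstance (f := fun m => z (m + c)) fun {i k} hik => by
      rw [SModEq.sub_mem]
      have h1 := mem_pow_smul_top J (i + c - c) (hc (i + c) (Nat.le_add_left c i) (z (i + c) - z (k + c)) (by
        rw [map_sub, hz, hzz (Nat.add_le_add_right hik c), sub_self]))
      rwa [Nat.add_sub_cancel] at h1
    refine ⟨L, fun m => ?_⟩
    have h1 : z (m + 1 + c) - L ∈ J ^ (m + 1) • (⊤ : Submodule R Γ(G, ⊤)) := SModEq.sub_mem.1 (hL (m + 1))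
    have h2 := hkill m _ h1
    rw [map_sub, hzz (by omega), sub_eq_zero] at h2
    exact h2.symm

end Groth.L17.ComplUnit
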