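import Groth.Agent.L17.ComplUnit.Levels2
import Groth.Agent.L17.ComplUnit.Limit

/-!
# The unit to the direct image of a completion, on an affine open
-/

set_option autoImplicit false
set_option linter.style.haveILetI false
set_option linter.unusedSectionVars false
set_option backward.isDefEq.respectTransparency false
set_option backward.isDefEq.respectTransparency.types false
set_option maxHeartbeats 800000

universe u

open CategoryTheory CategoryTheory.Limits AlgebraicGeometry TopologicalSpace Opposite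

noncomputable section

namespace Groth.L17.ComplUnit

open Groth.L17.FSheaf Groth.L17.FSheaf.Restr
open Groth.L16.AffineBC (scal)

variable {X Z : Scheme.{u}} (f : Z ⟶ X) {𝔛 𝔜 : FSch.Sys.{u}} (φ : 𝔛 ⟶ 𝔜) (hX : 𝔛.IsLocNoethFormal)
  (hY : 𝔜.IsLocNoethFormal) (p : ∀ k, 𝔛.X k ⟶ Z) (hp : ∀ k, 𝔛.ι k ≫ p (k + 1) = p k)
  (r : ∀ k, 𝔜.X k ⟶ X) (hr : ∀ k, 𝔜.ι k ≫ r (k + 1) = r k)
  (hsq : ∀ n, IsPullback (p n) ((φ : FSch.Hom 𝔛 𝔜).app n) f (r n))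
  {W : X.Opens} (hW : IsAffineOpen W) (𝔐 : FSch.ModSys 𝔜)

theorem scal_top {R : Type u} [CommRing R] {A : Scheme.{u}} [A.Over (Spec (CommRingCat.of R))] (a : R) :
    scal R A ⊤ a = σZ (A ↘ Spec (CommRingCat.of R)) a := by
  show A.presheaf.map (homOfLE le_top).op _ = _
  exact ConcreteCategory.congr_hom (CategoryTheory.Functor.map_id A.presheaf (op ⊤)) _

include hsq in
theorem isIso_g_restrict (U : X.Opens) (hU : IsIso (f ∣_ U)) (D : (Spec (CommRingCat.of (Rc (W := W) hY r))).Opens)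
    (hD : D ≤ qW hY r hr hW ⁻¹ᵁ U) : IsIso (g f hY r hr hW ∣_ D) := by
  have h1 : IsPullback ((g f hY r hr hW ⁻¹ᵁ D).ι ≫ pullback.fst f (qW hY r hr hW)) (g f hY r hr hW ∣_ D) f
      (D.ι ≫ qW hY r hr hW) :=
    ((isPullback_morphismRestrict (g f hY r hr hW) D).paste_vert
      (IsPullback.of_hasPullback f (qW hY r hr hW)).flip).flip
  have h2 := (isPullback_morphismRestrict f U).flip
  have hle : g f hY r hr hW ⁻¹ᵁ D ≤ pullback.fst f (qW hY r hr hW) ⁻¹ᵁ (f ⁻¹ᵁ U) := fun x hx => by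
    show (pullback.fst f (qW hY r hr hW) ≫ f) x ∈ U
    rw [pullback.condition]
    exact hD hx
  have h3 : IsPullback ((pullback.fst f (qW hY r hr hW)).resLE (f ⁻¹ᵁ U) (g f hY r hr hW ⁻¹ᵁ D) hle)
      (g f hY r hr hW ∣_ D) (f ∣_ U) ((qW hY r hr hW).resLE U D hD) := by
    refine IsPullback.of_right ?_ ?_ h2
    · rw [Scheme.Hom.resLE_comp_ι, Scheme.Hom.resLE_comp_ι]
      exact h1
    · rw [← cancel_mono U.ι]
      simp only [Category.assoc, Scheme.Hom.resLE_comp_ι, morphismRestrict_ι, Scheme.Hom.resLE_comp_ι_assoc,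
        morphismRestrict_ι_assoc, pullback.condition]
  exact MorphismProperty.of_isPullback (P := MorphismProperty.isomorphisms Scheme) h3 hU

theorem le_preimage_of_mem (U : X.Opens) (I : Ideal Γ(X, W)) (hI : ∀ a ∈ I, X.basicOpen a ≤ U)
    (s : Rc (W := W) hY r) (hs : s ∈ I.map (α hY r hr)) :
    (PrimeSpectrum.basicOpen s : (Spec (CommRingCat.of (Rc (W := W) hY r))).Opens) ≤ qW hY r hr hW ⁻¹ᵁ U := by
  intro x hx
  have hnot : ¬ I.map (α hY r hr) ≤ PrimeSpectrum.asIdeal x := fun h => hx (h hs)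
  rw [Ideal.map_le_iff_le_comap, SetLike.not_le_iff_exists] at hnot
  obtain ⟨a, ha, hax⟩ := hnot
  refine hI a ha ?_
  have h1 : hW.fromSpec ⁻¹ᵁ X.basicOpen a = PrimeSpectrum.basicOpen a := hW.fromSpec_preimage_basicOpen a
  show Spec.map (CommRingCat.ofHom (α hY r hr)) x ∈ hW.fromSpec ⁻¹ᵁ X.basicOpen a
  rw [h1]
  exact hax

include hp hsq hW in
theorem exists_local [IsProper f] (hr0 : IsClosedImmersion (r 0)) (h𝔐 : 𝔐.IsCoh) (U : X.Opens)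
    (hU : IsIso (f ∣_ U)) (I : Ideal Γ(X, W)) (hI : ∀ a ∈ I, X.basicOpen a ≤ U) :
    ∃ n : ℕ, ∀ s ∈ I ^ n,
      (∀ m : RM 𝔜 hY.1 𝔐 (W₀ (W := W) r), (∀ k, θ₁ φ hX hY r 𝔐 k m = 0) → α hY r hr s • m = 0) ∧
      ∀ y : ∀ k, Γ((FSch.ModSys.pullback φ 𝔐).F k, 𝔛.lvU hX.1 k (V₀ (W := W) φ r)),
        (∀ k, (tM 𝔛 hX.1 (FSch.ModSys.pullback φ 𝔐) k (V₀ φ r) (y (k + 1)) :
          Γ((FSch.ModSys.pullback φ 𝔐).F k, 𝔛.lvU hX.1 k (V₀ φ r))) = y k) →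
        ∃ m : RM 𝔜 hY.1 𝔐 (W₀ (W := W) r), ∀ k, θ₁ φ hX hY r 𝔐 k m =
          ((fL φ k).appLE (𝔜.lvU hY.1 k (W₀ r)) (𝔛.lvU hX.1 k (V₀ φ r)) (fU_le φ hX.1 hY.1 k (W₀ r))
            (pR 𝔜 hY.1 k (W₀ r) (α hY r hr s))) • y k := by
  have hW0 := isAffineOpen_W₀ (𝔜 := 𝔜) r hW hr0
  let R := Rc (W := W) hY r
  haveI : IsNoetherianRing R := (O_spec 𝔜 hY hW0).1
  haveI : IsAdicComplete (J 𝔜 hY.1 (W₀ (W := W) r)) R := (O_spec 𝔜 hY hW0).2.1
  let M := MW (W := W) hY r 𝔐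
  haveI : Module.Finite R M := (RM_spec 𝔜 𝔐 hY h𝔐 hW0).1
  let gg := g f hY r hr hW
  haveI : IsProper gg := inferInstance
  haveI : IsProper (Z' f hY r hr hW ↘ Spec (CommRingCat.of R)) := inferInstanceAs (IsProper gg)
  have hG : Coh.IsCoh (Gm f hY r hr hW 𝔐) := by
    haveI : IsLocallyNoetherian (Z' f hY r hr hW) := LocallyOfFiniteType.isLocallyNoetherian gg
    exact Groth.L16.AffineBC.isCoh_pullback gg (isCoh_tilde M)
  obtain ⟨n, hn⟩ := exists_kill gg M (I.map (α hY r hr)) fun s hs =>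
    isIso_g_restrict f φ hY p r hr hsq hW U hU _ (le_preimage_of_mem hY r hr hW U I hI s hs)
  obtain ⟨hinj, hsur⟩ := limit_bijective (J 𝔜 hY.1 (W₀ (W := W) r)) (trk f φ hX hY p hp r hr hsq hW 𝔐)
    (v f φ hX hY p r hr hsq hW 𝔐) (v_gTr f φ hX hY p hp r hr hsq hW 𝔐) hG
    (fun k A hA => v_spec f φ hX hY p r hr hsq hW 𝔐 hr0 h𝔐 k A hA)
  refine ⟨n, fun s hs => ?_⟩
  obtain ⟨h1, h2⟩ := hn (α hY r hr s) (by rw [← Ideal.map_pow]; exact Ideal.mem_map_of_mem _ hs)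
  have hρ := fun k => ρ_bijective 𝔛 hX.1 (V₀ (W := W) φ r) (FSch.ModSys.pullback φ 𝔐) k
  have hρ0 : ∀ k, ρ 𝔛 hX.1 (V₀ (W := W) φ r) (FSch.ModSys.pullback φ 𝔐) k 0 = 0 := fun k => by
    unfold ρ
    have h := rspull_add (𝔛.lvU hX.1 k (V₀ (W := W) φ r)).ι ((FSch.ModSys.pullback φ 𝔐).F k)
      (Scheme.Opens.ι_preimage_self (𝔛.lvU hX.1 k (V₀ φ r))).ge 0 0
    rw [add_zero] at h
    exact left_eq_add.1 h
  refine ⟨fun m hm => h1 m (hinj _ fun k => ?_), fun y hy => ?_⟩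
  · exact (v_η f φ hX hY p r hr hsq hW 𝔐 k m).trans ((congrArg _ (hm k)).trans (hρ0 k))
  obtain ⟨z, hz⟩ := hsur (fun k => ρ 𝔛 hX.1 (V₀ (W := W) φ r) (FSch.ModSys.pullback φ 𝔐) k (y k)) fun k => by
    exact (gTr_ρ 𝔛 hX.1 (V₀ (W := W) φ r) (FSch.ModSys.pullback φ 𝔐) (b f φ hX hY p r hr hsq hW)
      (b_comm f φ hX hY p hp r hr hsq hW) k (y (k + 1))).trans (congrArg _ (hy k))
  obtain ⟨m, hm⟩ := h2 z
  refine ⟨m, fun k => (hρ k).1 ?_⟩
  have e1 := congrArg ((v f φ hX hY p r hr hsq hW 𝔐 k).app ⊤) hm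
  rw [v_η, Scheme.Modules.Hom.app_smul, hz k] at e1
  refine Eq.trans e1 ?_
  refine Eq.trans ?_ (ρ_smul 𝔛 hX.1 (V₀ (W := W) φ r) (FSch.ModSys.pullback φ 𝔐) k _ (y k)).symm
  refine congrArg (fun c : Γ((XU 𝔛 hX.1 (V₀ (W := W) φ r)).X k, ⊤) =>
    c • ρ 𝔛 hX.1 (V₀ (W := W) φ r) (FSch.ModSys.pullback φ 𝔐) k (y k)) ?_
  exact (congrArg ((b f φ hX hY p r hr hsq hW k).app ⊤) (scal_top (R := R) _).symm).trans
    (scal_b f φ hX hY p r hr hsq hW k _)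

end Groth.L17.ComplUnit
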