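import Groth.Agent.L17.ComplUnit.Pin

/-!
# The kernel and the cokernel of the unit are killed on an affine open
-/

set_option autoImplicit false
set_option linter.style.haveILetI false
set_option linter.unusedSectionVars false
set_option backward.isDefEq.respectTransparency false
set_option backward.isDefEq.respectTransparency.types false
set_option maxHeartbeats 800000

universe u

open CategoryTheory CategoryTheory.Limits AlgebraicGeometry TopologicalSpace Opposite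

noncomputable section

namespace Groth.L17.ComplUnit

open Groth.L17.FSheaf Groth.L17.FSheaf.Restr

/-- A scalar killing the kernel and the cokernel on sections transfers to isomorphic arrows. -/
theorem transfer {R A B A' B' : Type u} [Ring R] [AddCommGroup A] [Module R A] [AddCommGroup B] [Module R B]
    [AddCommGroup A'] [Module R A'] [AddCommGroup B'] [Module R B'] (θ : A →ₗ[R] B) (ψ : A' →ₗ[R] B')
    (a : A →ₗ[R] A') (b : B →ₗ[R] B') (ha : Function.Bijective a) (hb : Function.Bijective b)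
    (hc : ∀ x, b (θ x) = ψ (a x)) (r : R) (hker : ∀ x, ψ x = 0 → r • x = 0) (hcok : ∀ y, ∃ x, ψ x = r • y) :
    (∀ x, θ x = 0 → r • x = 0) ∧ ∀ y, ∃ x, θ x = r • y := by
  refine ⟨fun x hx => ha.1 ?_, fun y => ?_⟩
  · rw [map_smul, map_zero]
    exact hker _ (by rw [← hc, hx, map_zero])
  · obtain ⟨x', hx'⟩ := hcok (b y)
    obtain ⟨x, rfl⟩ := ha.2 x'
    exact ⟨x, hb.1 (by rw [hc, hx', map_smul])⟩

theorem bijective_val_app {Y : TopCat.{u}} {R : Sheaf (Opens.grothendieckTopology Y) RingCat.{u}}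
    {A B : SheafOfModules.{u} R} (φ : A ⟶ B) [IsIso φ] (U : Opens Y) :
    Function.Bijective (φ.val.app (op U)).hom :=
  ConcreteCategory.bijective_of_isIso ((SheafOfModules.evaluation.{u} R (op U)).map φ)

variable {X Z : Scheme.{u}} (f : Z ⟶ X) {𝔛 𝔜 : FSch.Sys.{u}} (φ : 𝔛 ⟶ 𝔜) (hX : 𝔛.IsLocNoethFormal)
  (hY : 𝔜.IsLocNoethFormal) (p : ∀ k, 𝔛.X k ⟶ Z) (hp : ∀ k, 𝔛.ι k ≫ p (k + 1) = p k)
  (r : ∀ k, 𝔜.X k ⟶ X) (hr : ∀ k, 𝔜.ι k ≫ r (k + 1) = r k)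
  (hsq : ∀ n, IsPullback (p n) ((φ : FSch.Hom 𝔛 𝔜).app n) f (r n))
  {W : X.Opens} (hW : IsAffineOpen W) (hr0 : IsClosedImmersion (r 0))
  (U : X.Opens) (hU : IsIso (f ∣_ U)) (I : Ideal Γ(X, W)) (hI : ∀ a ∈ I, X.basicOpen a ≤ U)

include hp hsq hW hr0 hU hI in
theorem exists_pow_killing_real [IsProper f] (𝔐 : FSch.ModSys 𝔜) (h𝔐 : 𝔐.IsCoh)
    (e : (FSch.pullF φ hX.1 hY.1).obj (𝔐.realMod hY.1) ≅ (FSch.ModSys.pullback φ 𝔐).realMod hX.1)
    (he : ∀ k : ℕ, (FSch.homMor φ hX.1 hY.1).adj.homEquiv _ _ e.hom ≫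
          (FSch.pushF φ hX.1 hY.1).map (FSch.realProj 𝔛 hX.1 _ _ k) ≫
          (FSch.lvPushSq φ hX.1 hY.1 k).hom.app ((FSch.ModSys.pullback φ 𝔐).F k) =
        FSch.realProj 𝔜 hY.1 _ _ k ≫
          (FSch.levelMor 𝔜 hY.1 k).push.map
            ((ModSite.RMor.ofScheme ((φ : FSch.Hom 𝔛 𝔜).app k)).adj.unit.app (𝔐.F k))) :
    ∃ n : ℕ, ∀ s ∈ I ^ n,
      (∀ m : RM 𝔜 hY.1 𝔐 (W₀ (W := W) r),
        ((((FSch.homMor φ hX.1 hY.1).adj.homEquiv _ _ e.hom).val.app (op (W₀ (W := W) r))).hom m) = 0 →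
          α hY r hr s • m = 0) ∧
      ∀ y, ∃ m, ((((FSch.homMor φ hX.1 hY.1).adj.homEquiv _ _ e.hom).val.app (op (W₀ (W := W) r))).hom m) =
        α hY r hr s • y := by
  obtain ⟨n, hn⟩ := exists_local f φ hX hY p hp r hr hsq hW 𝔐 hr0 h𝔐 U hU I hI
  refine ⟨n, fun s hs => ?_⟩
  obtain ⟨h1, h2⟩ := hn s hs
  have hq := fun k m => qM_unit φ hX hY 𝔐 e he k (W₀ (W := W) r) m
  refine ⟨fun m hm => h1 m fun k => ?_, fun y => ?_⟩
  · refine (hq k m).symm.trans ?_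
    exact (congrArg (qM 𝔛 hX.1 (FSch.ModSys.pullback φ 𝔐) k (fU φ (W₀ r))) hm).trans (map_zero _)
  · obtain ⟨m, hm⟩ := h2
      (fun k => qM 𝔛 hX.1 (FSch.ModSys.pullback φ 𝔐) k (fU φ (W₀ r)) (show RM 𝔛 hX.1 _ _ from y)) fun k =>
        LinearMap.congr_fun (tM_qM 𝔛 hX.1 (FSch.ModSys.pullback φ 𝔐) k) (show RM 𝔛 hX.1 _ _ from y)
    refine ⟨m, qM_ext 𝔛 hX.1 (FSch.ModSys.pullback φ 𝔐) fun k => ?_⟩
    refine ((hq k m).trans (hm k)).trans ?_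
    have h3 : pR 𝔛 hX.1 k (fU φ (W₀ r)) ((FSch.Hom.sharp φ hX.1 hY.1).hom.app (op (W₀ r)) (α hY r hr s)) =
        (fL φ k).appLE (𝔜.lvU hY.1 k (W₀ r)) (𝔛.lvU hX.1 k (V₀ φ r)) (fU_le φ hX.1 hY.1 k (W₀ r))
          (pR 𝔜 hY.1 k (W₀ r) (α hY r hr s)) :=
      ConcreteCategory.congr_hom (congrArg (fun (t : 𝔜.Osh hY.1 ⟶ _) => t.hom.app (op (W₀ r)))
        (FSch.Hom.sharp_proj φ hX.1 hY.1 k)) (α hY r hr s)
    refine Eq.trans ?_ (map_smul (qM 𝔛 hX.1 (FSch.ModSys.pullback φ 𝔐) k (fU φ (W₀ r)))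
      ((FSch.Hom.sharp φ hX.1 hY.1).hom.app (op (W₀ r)) (α hY r hr s)) (show RM 𝔛 hX.1 _ _ from y)).symm
    exact congrArg (fun c : Γ(𝔛.X k, 𝔛.lvU hX.1 k (fU φ (W₀ (W := W) r))) => c •
      (show Γ((FSch.ModSys.pullback φ 𝔐).F k, 𝔛.lvU hX.1 k (fU φ (W₀ (W := W) r))) from
        qM 𝔛 hX.1 (FSch.ModSys.pullback φ 𝔐) k (fU φ (W₀ r)) (show RM 𝔛 hX.1 _ _ from y))) h3.symm

variable (𝔉 : FSch.ModF 𝔜 hY.1) (h𝔉 : FSch.IsCohF 𝔜 hY.1 𝔉)

include hp hsq hW hr0 hU hI h𝔉 in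
/-- On an affine open a power of the ideal kills the kernel and the cokernel of the unit. -/
theorem exists_pow_killing_unit [IsProper f] (hφ : FSch.IsProperHom φ) :
    ∃ n : ℕ, ∀ s ∈ I ^ n,
      (∀ x : (kernel ((FSch.homMor φ hX.1 hY.1).adj.unit.app 𝔉)).val.obj (op (W₀ (W := W) r)),
        α hY r hr s • x = 0) ∧
      ∀ x : (cokernel ((FSch.homMor φ hX.1 hY.1).adj.unit.app 𝔉)).val.obj (op (W₀ (W := W) r)),
        α hY r hr s • x = 0 := by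
  let 𝔐 := canonSys 𝔜 hY.1 𝔉
  have h𝔐 : 𝔐.IsCoh := isCoh_canonSys 𝔜 hY 𝔉 h𝔉
  obtain ⟨e, he⟩ := exists_pullF_iso_realMod φ 𝔐 hX hY h𝔐
  obtain ⟨n, hn⟩ := exists_pow_killing_real f φ hX hY p hp r hr hsq hW hr0 U hU I hI 𝔐 h𝔐 e he
  haveI := isIso_toCanon 𝔜 hY 𝔉 h𝔉
  let c := toCanon 𝔜 hY.1 𝔉
  let A := FSch.homMor φ hX.1 hY.1
  let η := A.adj.unit.app 𝔉
  let b := (FSch.pushF φ hX.1 hY.1).map ((FSch.pullF φ hX.1 hY.1).map c ≫ e.hom)
  have hsq' : η ≫ b = c ≫ A.adj.homEquiv _ _ e.hom := by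
    rw [Adjunction.homEquiv_unit]
    show η ≫ (FSch.pushF φ hX.1 hY.1).map _ = _
    rw [Functor.map_comp]
    exact (Category.assoc _ _ _).symm.trans ((congrArg (· ≫ _) (A.adj.unit.naturality c).symm).trans (Category.assoc _ _ _))
  have hW0 := isAffineOpen_W₀ (𝔜 := 𝔜) r hW hr0
  refine ⟨n, fun s hs => ?_⟩
  obtain ⟨h1, h2⟩ := hn s hs
  obtain ⟨t1, t2⟩ := transfer (η.val.app (op (W₀ (W := W) r))).hom
    ((A.adj.homEquiv _ _ e.hom).val.app (op (W₀ (W := W) r))).hom (c.val.app (op (W₀ (W := W) r))).hom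
    (b.val.app (op (W₀ (W := W) r))).hom (bijective_val_app c _) (bijective_val_app b _)
    (fun x => LinearMap.congr_fun (congrArg (fun t : 𝔉 ⟶ _ => (t.val.app (op (W₀ (W := W) r))).hom) hsq') x)
    (α hY r hr s) h1 h2
  have hP : FSch.IsCohF 𝔜 hY.1 ((FSch.pushF φ hX.1 hY.1).obj ((FSch.pullF φ hX.1 hY.1).obj 𝔉)) :=
    isCohF_pushF φ hX hY (hφ := hφ) _ (isCohF_pullF φ hX hY 𝔉 h𝔉)
  constructor
  · intro x
    refine (exists_kernel_sect η (op (W₀ (W := W) r))).2 ?_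
    rw [map_smul, map_zero]
    exact t1 _ (hom_comp_zero (kernel.condition η) _ x)
  · intro x
    obtain ⟨y, rfl⟩ := surjective_of_epi 𝔜 hY hP (isCohF_cokernel 𝔜 hY h𝔉 hP η) (cokernel.π η) hW0 x
    obtain ⟨m, hm⟩ := t2 y
    refine (map_smul ((cokernel.π η).val.app (op (W₀ (W := W) r))).hom _ y).symm.trans ?_
    exact (congrArg ((cokernel.π η).val.app (op (W₀ (W := W) r))).hom hm.symm).trans
      (hom_comp_zero (cokernel.condition η) _ m)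

end Groth.L17.ComplUnit
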