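import Groth.Agent.L17.ComplUnit.Local
import Groth.Agent.L17.FSheaf.RpushCoh
import Groth.Agent.L17.FSheaf.UnitCoh

/-!
# The unit of a morphism of formal schemes on sections over affine opens
-/

set_option autoImplicit false
set_option linter.style.haveILetI false
set_option linter.unusedSectionVars false
set_option backward.isDefEq.respectTransparency false
set_option backward.isDefEq.respectTransparency.types false
set_option maxHeartbeats 800000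

universe u

open CategoryTheory CategoryTheory.Limits AlgebraicGeometry TopologicalSpace Opposite

noncomputable section

namespace Groth.L17.ComplUnit

open Groth.L17.FSheaf Groth.L17.FSheaf.Restr
open Groth.L18.Frame (rs ro pull rs_rs rs_self)

variable {𝔛 𝔜 : FSch.Sys.{u}} (φ : 𝔛 ⟶ 𝔜) (hX : 𝔛.IsLocNoethFormal) (hY : 𝔜.IsLocNoethFormal)

theorem isCohF_pushF {hφ : FSch.IsProperHom φ} (𝔊 : FSch.ModF 𝔛 hX.1) (h𝔊 : FSch.IsCohF 𝔛 hX.1 𝔊) :
    FSch.IsCohF 𝔜 hY.1 ((FSch.pushF φ hX.1 hY.1).obj 𝔊) := by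
  haveI := hasInjectiveResolutions_modF 𝔛 hX.1
  haveI : PreservesFiniteLimits (FSch.pushF φ hX.1 hY.1) := inferInstance
  haveI : SheafOfModules.IsFinitePresentation (R := ModSite.ringSh (𝔜.Osh hY.1))
      ((RpushF.RQ hX hY φ 0).obj 𝔊) :=
    RpushF.isCohF_rpushF hX hY φ _ h𝔊 hφ 0
  exact (SheafOfModules.isFinitePresentation.{u} (R := ModSite.ringSh (𝔜.Osh hY.1))).prop_of_iso
    ((FSch.pushF φ hX.1 hY.1).rightDerivedZeroIsoSelf.app 𝔊) this

variable (𝔐 : FSch.ModSys 𝔜) (e : (FSch.pullF φ hX.1 hY.1).obj (𝔐.realMod hY.1) ≅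
    (FSch.ModSys.pullback φ 𝔐).realMod hX.1)
  (he : ∀ k : ℕ, (FSch.homMor φ hX.1 hY.1).adj.homEquiv _ _ e.hom ≫
          (FSch.pushF φ hX.1 hY.1).map (FSch.realProj 𝔛 hX.1 _ _ k) ≫
          (FSch.lvPushSq φ hX.1 hY.1 k).hom.app ((FSch.ModSys.pullback φ 𝔐).F k) =
        FSch.realProj 𝔜 hY.1 _ _ k ≫
          (FSch.levelMor 𝔜 hY.1 k).push.map
            ((ModSite.RMor.ofScheme ((φ : FSch.Hom 𝔛 𝔜).app k)).adj.unit.app (𝔐.F k)))

include he in
theorem qM_unit (k : ℕ) (U : (𝔜.X 0).Opens) (m : RM 𝔜 hY.1 𝔐 U) :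
    (qM 𝔛 hX.1 (FSch.ModSys.pullback φ 𝔐) k (fU φ U)
        ((((FSch.homMor φ hX.1 hY.1).adj.homEquiv _ _ e.hom).val.app (op U)).hom m) :
      Γ((FSch.ModSys.pullback φ 𝔐).F k, 𝔛.lvU hX.1 k (fU φ U))) =
      rs ((Scheme.Modules.pullback (fL φ k)).obj (𝔐.F k)) (fU_le φ hX.1 hY.1 k U)
        (pull (fL φ k) (𝔐.F k) _ (qM 𝔜 hY.1 𝔐 k U m)) := by
  have h1 : (FSch.homMor φ hX.1 hY.1).adj.homEquiv _ _ e.hom ≫
      (FSch.pushF φ hX.1 hY.1).map (FSch.realProj 𝔛 hX.1 _ _ k) =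
      FSch.realProj 𝔜 hY.1 _ _ k ≫
        (FSch.levelMor 𝔜 hY.1 k).push.map
            ((ModSite.RMor.ofScheme (fL φ k)).adj.unit.app (𝔐.F k)) ≫
          (FSch.lvPushSq φ hX.1 hY.1 k).inv.app ((FSch.ModSys.pullback φ 𝔐).F k) := by
    rw [← cancel_mono ((FSch.lvPushSq φ hX.1 hY.1 k).hom.app ((FSch.ModSys.pullback φ 𝔐).F k))]
    simp only [Category.assoc, Iso.inv_hom_id_app]
    exact (he k).trans (congrArg (_ ≫ ·) (Category.comp_id _).symm)
  exact LinearMap.congr_fun (congrArg (fun t : 𝔐.realMod hY.1 ⟶ _ => (t.val.app (op U)).hom) h1) m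

end Groth.L17.ComplUnit
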