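import Groth.Agent.L17.ComplUnit.OnAffine

/-!
# Sections killing a coherent module on one affine open kill it on all of them
-/

set_option autoImplicit false
set_option linter.style.haveILetI false
set_option linter.unusedSectionVars false
set_option backward.isDefEq.respectTransparency false
set_option backward.isDefEq.respectTransparency.types false
set_option maxHeartbeats 800000

universe u

open CategoryTheory CategoryTheory.Limits AlgebraicGeometry TopologicalSpace Opposite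

noncomputable section

namespace Groth.L17.ComplUnit

open Groth.L17.FSheaf Groth.L17.FSheaf.Restr

variable {X : Scheme.{u}} (𝔜 : FSch.Sys.{u}) (hY : 𝔜.IsLocNoethFormal) (r : ∀ k, 𝔜.X k ⟶ X)
  (hr : ∀ k, 𝔜.ι k ≫ r (k + 1) = r k) (hr0 : IsClosedImmersion (r 0))

theorem resO_α {W W' : X.Opens} (h : W' ≤ W) (a : Γ(X, W)) :
    resO 𝔜 hY.1 ((r 0).preimage_mono h) (α hY r hr a) = α hY r hr (X.presheaf.map (homOfLE h).op a) :=
  (ConcreteCategory.congr_hom ((FSch.schSharp 𝔜 hY.1 r hr).hom.naturality (homOfLE h).op) a).symm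

variable (𝔊 : FSch.ModF 𝔜 hY.1) (h𝔊 : FSch.IsCohF 𝔜 hY.1 𝔊)

include hr0 h𝔊 in
/-- Killing passes to smaller affine opens. -/
theorem kills_of_le {W W' : X.Opens} (hW : IsAffineOpen W) (hW' : IsAffineOpen W') (h : W' ≤ W)
    (I : Ideal Γ(X, W)) (hI : ∀ s ∈ I, ∀ x : SF 𝔜 hY.1 𝔊 (W₀ (W := W) r), α hY r hr s • x = 0)
    (s : Γ(X, W')) (hs : s ∈ I.map (X.presheaf.map (homOfLE h).op).hom) (x : SF 𝔜 hY.1 𝔊 (W₀ (W := W') r)) :
    α hY r hr s • x = 0 := by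
  induction hs using Submodule.span_induction generalizing x with
  | mem s hs =>
    obtain ⟨t, ht, rfl⟩ := hs
    obtain ⟨n, m, g, _, -, hg⟩ := exists_gen_rel_SF 𝔜 hY h𝔊 (isAffineOpen_W₀ (𝔜 := 𝔜) r hW hr0)
    obtain ⟨c, hc⟩ := (Submodule.mem_span_range_iff_exists_fun _).1
      ((hg (isAffineOpen_W₀ (𝔜 := 𝔜) r hW' hr0) ((r 0).preimage_mono h)).1 ▸ Submodule.mem_top : x ∈ _)
    rw [← hc, Finset.smul_sum]
    refine Finset.sum_eq_zero fun i _ => ?_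
    rw [smul_comm, ← resO_α 𝔜 hY r hr h t]
    refine Eq.trans (congrArg (c i • ·) ?_) (smul_zero _)
    refine (Groth.L17.FSheaf.res_smul (R := ModSite.ringSh (𝔜.Osh hY.1)) 𝔊 ((r 0).preimage_mono h) (α hY r hr t) (g i)).symm.trans ?_
    exact (congrArg (Groth.L17.FSheaf.res (R := ModSite.ringSh (𝔜.Osh hY.1)) 𝔊 ((r 0).preimage_mono h)) (hI t ht (g i))).trans
      (map_zero _)
  | zero => rw [map_zero, zero_smul]
  | add a b _ _ ha hb => rw [map_add, add_smul, ha, hb, add_zero]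
  | smul a b _ hb => rw [smul_eq_mul, map_mul, mul_smul, hb, smul_zero]

variable (𝓝 : X.IdealSheafData)

include hr0 h𝔊 in
/-- Killing on an affine cover is killing on every affine open. -/
theorem kills_of_cover (C : Set X.affineOpens) (hC : ∀ x : X, ∃ W ∈ C, x ∈ W.1)
    (hk : ∀ W ∈ C, ∀ s ∈ 𝓝.ideal W, ∀ x : SF 𝔜 hY.1 𝔊 (W₀ (W := W.1) r), α hY r hr s • x = 0)
    (U : X.affineOpens) (s : Γ(X, U.1)) (hs : s ∈ 𝓝.ideal U) (x : SF 𝔜 hY.1 𝔊 (W₀ (W := U.1) r)) :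
    α hY r hr s • x = 0 := by
  let P := 𝔊.val.presheaf
  refine TopCat.Presheaf.section_ext (⟨P, 𝔊.isSheaf⟩ : TopCat.Sheaf Ab.{u} (𝔜.X 0)) _ _ _ fun y hy => ?_
  obtain ⟨W, hWC, hyW⟩ := hC (r 0 y)
  obtain ⟨a, b, hab, hya⟩ := exists_basicOpen_le_affine_inter U.2 W.2 (r 0 y) ⟨hy, hyW⟩
  let D : X.affineOpens := X.affineBasicOpen a
  have hDU : D ≤ U := X.affineBasicOpen_le a
  have hDW : D.1 ≤ W.1 := hab.trans_le (X.basicOpen_le b)
  show TopCat.Presheaf.germ P (W₀ (W := U.1) r) y hy (α hY r hr s • x) =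
    TopCat.Presheaf.germ P (W₀ (W := U.1) r) y hy (0 : SF 𝔜 hY.1 𝔊 (W₀ (W := U.1) r))
  rw [← TopCat.Presheaf.germ_res_apply P (homOfLE ((r 0).preimage_mono (show D.1 ≤ U.1 from hDU))) y hya,
    ← TopCat.Presheaf.germ_res_apply P (homOfLE ((r 0).preimage_mono (show D.1 ≤ U.1 from hDU))) y hya]
  refine congrArg (TopCat.Presheaf.germ P (W₀ (W := D.1) r) y hya) ?_
  show Groth.L17.FSheaf.res (R := ModSite.ringSh (𝔜.Osh hY.1)) 𝔊 _ (α hY r hr s • x) = Groth.L17.FSheaf.res (R := ModSite.ringSh (𝔜.Osh hY.1)) 𝔊 _ 0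
  refine Eq.trans ?_ (map_zero _).symm
  refine (Groth.L17.FSheaf.res_smul (R := ModSite.ringSh (𝔜.Osh hY.1)) 𝔊 _ (α hY r hr s) x).trans ?_
  refine Eq.trans (congrArg (· • _) (resO_α 𝔜 hY r hr (show D.1 ≤ U.1 from hDU) s)) ?_
  refine kills_of_le 𝔜 hY r hr hr0 𝔊 h𝔊 W.2 D.2 hDW (𝓝.ideal W) (hk W hWC) _ ?_ _
  rw [Scheme.IdealSheafData.map_ideal' 𝓝 (U := D) (V := W) (homOfLE hDW).op,
    ← Scheme.IdealSheafData.map_ideal 𝓝 hDU]
  exact Ideal.mem_map_of_mem _ hs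

end Groth.L17.ComplUnit
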